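import Mathlib

/-! # A subring of a valuation ring which is "unramified at a uniformiser" fills the valuation ring

Valuation-theoretic core of the base change of unramified extensions of discrete valuation
rings. -/

set_option autoImplicit false
set_option linter.style.haveILetI false

namespace Groth.Agent.Lib.Helper18.Unram

open IsLocalRing

section ValPart

variable {F : Type*} [Field F] (W : ValuationSubring F) (D : Subring F) (ϖ : F)

/-- The data: a subring `D` of the valuation ring `W` generating the field, an element `ϖ` of `D`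
which is topologically nilpotent and separated, such that `D` localised at the centre of `W` has
maximal ideal generated by `ϖ`. -/
structure UData : Prop where
  hDW : ∀ d ∈ D, d ∈ W
  hϖD : ϖ ∈ D
  hϖ : W.valuation ϖ < 1
  hϖ0 : ϖ ≠ 0
  sep : ∀ y ∈ D, y ≠ 0 → ∃ n : ℕ, ¬ (W.valuation y ≤ W.valuation ϖ ^ n)
  f3 : ∀ x ∈ D, W.valuation x < 1 → ∃ s ∈ D, W.valuation s = 1 ∧ ∃ d ∈ D, s * x = ϖ * d
  gen : ∀ x : F, ∃ d₁ ∈ D, ∃ d₂ ∈ D, d₂ ≠ 0 ∧ x = d₁ / d₂

variable {W D ϖ}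

theorem UData.vϖ_pos (h : UData W D ϖ) : 0 < W.valuation ϖ := by
  rw [pos_iff_ne_zero]; exact (Valuation.ne_zero_iff _).mpr h.hϖ0

theorem UData.decomp_aux (h : UData W D ϖ) : ∀ N : ℕ, ∀ y ∈ D, y ≠ 0 →
    ¬ (W.valuation y ≤ W.valuation ϖ ^ N) →
    ∃ n : ℕ, ∃ s ∈ D, ∃ t ∈ D, W.valuation s = 1 ∧ W.valuation t = 1 ∧ s * y = ϖ ^ n * t := by
  intro N
  induction N with
  | zero =>
    intro y hy _ hN
    exact absurd (by rw [pow_zero]; exact (W.valuation_le_one_iff y).mpr (h.hDW y hy)) hN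
  | succ N ih =>
    intro y hy hy0 hN
    have hle : W.valuation y ≤ 1 := (W.valuation_le_one_iff y).mpr (h.hDW y hy)
    rcases hle.lt_or_eq with hlt | heq
    · obtain ⟨s₁, hs₁, hs₁v, y₁, hy₁, he⟩ := h.f3 y hy hlt
      have hs₁0 : s₁ ≠ 0 := by
        intro h0; rw [h0, map_zero] at hs₁v; exact zero_ne_one hs₁v
      have hy₁0 : y₁ ≠ 0 := by
        intro h0
        rw [h0, mul_zero] at he
        exact (mul_ne_zero hs₁0 hy0) he
      have hv : W.valuation y = W.valuation ϖ * W.valuation y₁ := by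
        have := congrArg W.valuation he
        rwa [map_mul, map_mul, hs₁v, one_mul] at this
      have hN' : ¬ (W.valuation y₁ ≤ W.valuation ϖ ^ N) := by
        intro hc
        apply hN
        rw [hv, pow_succ']
        exact mul_le_mul_right hc _
      obtain ⟨n, s₂, hs₂, t, ht, hs₂v, htv, he₂⟩ := ih y₁ hy₁ hy₁0 hN'
      refine ⟨n + 1, s₂ * s₁, D.mul_mem hs₂ hs₁, t, ht, by rw [map_mul, hs₂v, hs₁v, one_mul],
        htv, ?_⟩
      calc s₂ * s₁ * y = s₂ * (s₁ * y) := by ring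
        _ = s₂ * (ϖ * y₁) := by rw [he]
        _ = ϖ * (s₂ * y₁) := by ring
        _ = ϖ * (ϖ ^ n * t) := by rw [he₂]
        _ = ϖ ^ (n + 1) * t := by ring
    · exact ⟨0, 1, D.one_mem, y, hy, map_one _, heq, by simp⟩

theorem UData.decomp (h : UData W D ϖ) (y : F) (hy : y ∈ D) (hy0 : y ≠ 0) :
    ∃ n : ℕ, ∃ s ∈ D, ∃ t ∈ D, W.valuation s = 1 ∧ W.valuation t = 1 ∧ s * y = ϖ ^ n * t := by
  obtain ⟨N, hN⟩ := h.sep y hy hy0
  exact h.decomp_aux N y hy hy0 hN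

theorem UData.decomp_field (h : UData W D ϖ) (x : F) (hx0 : x ≠ 0) :
    ∃ n m : ℕ, ∃ s ∈ D, ∃ t ∈ D, W.valuation s = 1 ∧ W.valuation t = 1 ∧
      x * (ϖ ^ m * s) = ϖ ^ n * t := by
  obtain ⟨d₁, hd₁, d₂, hd₂, hd₂0, rfl⟩ := h.gen x
  have hd₁0 : d₁ ≠ 0 := by
    intro h0; apply hx0; rw [h0, zero_div]
  obtain ⟨n₁, s₁, hs₁, t₁, ht₁, hs₁v, ht₁v, he₁⟩ := h.decomp d₁ hd₁ hd₁0
  obtain ⟨n₂, s₂, hs₂, t₂, ht₂, hs₂v, ht₂v, he₂⟩ := h.decomp d₂ hd₂ hd₂0
  have hs₂0 : s₂ ≠ 0 := by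
    intro h0; rw [h0, map_zero] at hs₂v; exact zero_ne_one hs₂v
  refine ⟨n₁, n₂, t₂ * s₁, D.mul_mem ht₂ hs₁, t₁ * s₂, D.mul_mem ht₁ hs₂,
    by rw [map_mul, ht₂v, hs₁v, one_mul], by rw [map_mul, ht₁v, hs₂v, one_mul], ?_⟩
  have h1 : d₁ / d₂ * (ϖ ^ n₂ * (t₂ * s₁)) * s₂ = ϖ ^ n₁ * (t₁ * s₂) * s₂ := by
    calc d₁ / d₂ * (ϖ ^ n₂ * (t₂ * s₁)) * s₂ = d₁ / d₂ * (ϖ ^ n₂ * t₂) * s₁ * s₂ := by ring
      _ = d₁ / d₂ * (s₂ * d₂) * s₁ * s₂ := by rw [he₂]
      _ = (s₁ * d₁) * s₂ * s₂ := by field_simp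
      _ = ϖ ^ n₁ * t₁ * s₂ * s₂ := by rw [he₁]
      _ = ϖ ^ n₁ * (t₁ * s₂) * s₂ := by ring
  exact mul_right_cancel₀ hs₂0 h1

/-- The maximal ideal of `W` is generated by `ϖ`. -/
theorem UData.exists_eq_mul (h : UData W D ϖ) (x : F) (hx : W.valuation x < 1) :
    ∃ w ∈ W, x = ϖ * w := by
  rcases eq_or_ne x 0 with rfl | hx0
  · exact ⟨0, W.zero_mem, by simp⟩
  obtain ⟨n, m, s, hs, t, ht, hsv, htv, he⟩ := h.decomp_field x hx0
  have hpos := h.vϖ_pos
  have hv : W.valuation x * W.valuation ϖ ^ m = W.valuation ϖ ^ n := by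
    have := congrArg W.valuation he
    rwa [map_mul, map_mul, map_mul, hsv, htv, mul_one, mul_one, map_pow, map_pow] at this
  have hnm : m < n := by
    by_contra hle
    rw [not_lt] at hle
    have h1 : W.valuation ϖ ^ m ≤ W.valuation ϖ ^ n := pow_le_pow_of_le_one hpos.le h.hϖ.le hle
    have h2 : W.valuation x * W.valuation ϖ ^ m < W.valuation ϖ ^ m := by
      calc W.valuation x * W.valuation ϖ ^ m < 1 * W.valuation ϖ ^ m :=
            mul_lt_mul_of_pos_right hx (pow_pos hpos m)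
        _ = W.valuation ϖ ^ m := one_mul _
    rw [hv] at h2
    exact absurd h1 (not_le.mpr h2)
  have hs0 : s ≠ 0 := by
    intro h0; rw [h0, map_zero] at hsv; exact zero_ne_one hsv
  refine ⟨ϖ ^ (n - m - 1) * t / s, ?_, ?_⟩
  · rw [← W.valuation_le_one_iff, map_div₀, map_mul, hsv, htv, mul_one, div_one, map_pow]
    exact pow_le_one₀ hpos.le h.hϖ.le
  · have hϖm : ϖ ^ m ≠ 0 := pow_ne_zero _ h.hϖ0
    have hn : n = m + (n - m - 1) + 1 := by omega
    have h1 : x * (ϖ ^ m * s) = ϖ * (ϖ ^ (n - m - 1) * t / s) * (ϖ ^ m * s) := by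
      rw [he]
      conv_lhs => rw [hn]
      field_simp
      ring
    exact mul_right_cancel₀ (mul_ne_zero hϖm hs0) h1

/-- Units of `W` are ratios of elements of `D` which are units of `W`. -/
theorem UData.exists_eq_div (h : UData W D ϖ) (x : F) (hx : W.valuation x = 1) :
    ∃ t ∈ D, ∃ s ∈ D, W.valuation t = 1 ∧ W.valuation s = 1 ∧ x = t / s := by
  have hx0 : x ≠ 0 := by
    intro h0; rw [h0, map_zero] at hx; exact zero_ne_one hx
  obtain ⟨n, m, s, hs, t, ht, hsv, htv, he⟩ := h.decomp_field x hx0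
  have hpos := h.vϖ_pos
  have hv : W.valuation ϖ ^ m = W.valuation ϖ ^ n := by
    have := congrArg W.valuation he
    rwa [map_mul, map_mul, map_mul, hsv, htv, mul_one, mul_one, map_pow, map_pow, hx, one_mul]
      at this
  have hnm : m = n := by
    rcases lt_trichotomy m n with hlt | heq | hgt
    · exact absurd hv (ne_of_gt (pow_lt_pow_right_of_lt_one₀ hpos h.hϖ hlt))
    · exact heq
    · exact absurd hv (ne_of_lt (pow_lt_pow_right_of_lt_one₀ hpos h.hϖ hgt))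
  subst hnm
  have hs0 : s ≠ 0 := by
    intro h0; rw [h0, map_zero] at hsv; exact zero_ne_one hsv
  have hϖm : ϖ ^ m ≠ 0 := pow_ne_zero _ h.hϖ0
  refine ⟨t, ht, s, hs, htv, hsv, ?_⟩
  rw [eq_div_iff hs0]
  have : ϖ ^ m * (x * s) = ϖ ^ m * t := by rw [← he]; ring
  exact mul_left_cancel₀ hϖm this

end ValPart

end Groth.Agent.Lib.Helper18.Unram
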