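import Mathlib
import Groth.Prelude.Def_EtRam
import Groth.Agent.Lib.Helper18.Eis.TotRam
import Groth.Agent.Lib.Helper18.Unram.ValPart

/-! # The residue-field part of the unramified base change argument -/

set_option autoImplicit false
set_option linter.style.haveILetI false

namespace Groth.Agent.Lib.Helper18.Unram

open IsLocalRing TensorProduct Polynomial

universe u

/-- In a reduced ring, an element of a minimal prime is killed by an element outside the prime. -/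
theorem exists_notMem_mul_eq_zero {T : Type*} [CommRing T] [IsReduced T] (𝔫 : Ideal T)
    [h𝔫 : 𝔫.IsPrime] (hmin : ∀ 𝔭 : Ideal T, 𝔭.IsPrime → 𝔭 ≤ 𝔫 → 𝔭 = 𝔫) {x : T} (hx : x ∈ 𝔫) :
    ∃ s ∉ 𝔫, s * x = 0 := by
  by_contra hcon
  push_neg at hcon
  -- the multiplicative set generated by the complement of `𝔫` and `x` avoids `0`
  let S : Submonoid T := 𝔫.primeCompl ⊔ Submonoid.powers x
  have h0 : (0 : T) ∉ S := by
    intro h0
    obtain ⟨s, hs, z, hz, hsz⟩ := Submonoid.mem_sup.mp h0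
    obtain ⟨n, rfl⟩ := hz
    have hnil : IsNilpotent (s * x) := by
      refine ⟨n + 1, ?_⟩
      rw [mul_pow, pow_succ x n, pow_succ' s n]
      calc s * s ^ n * (x ^ n * x) = (s * x ^ n) * (s ^ n * x) := by ring
        _ = 0 := by rw [hsz, zero_mul]
    exact hcon s hs hnil.eq_zero
  have hdisj : Disjoint ((⊥ : Ideal T) : Set T) (S : Set T) := by
    rw [Set.disjoint_left]
    intro a ha haS
    rw [SetLike.mem_coe, Ideal.mem_bot] at ha
    exact h0 (ha ▸ haS)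
  obtain ⟨𝔭, h𝔭, -, h𝔭S⟩ := Ideal.exists_le_prime_disjoint ⊥ S hdisj
  have hle : 𝔭 ≤ 𝔫 := by
    intro a ha
    by_contra hna
    exact Set.disjoint_left.mp h𝔭S ha (Submonoid.mem_sup_left (S := 𝔫.primeCompl) hna)
  have heq := hmin 𝔭 h𝔭 hle
  exact Set.disjoint_left.mp h𝔭S (heq ▸ hx)
    (Submonoid.mem_sup_right (Submonoid.mem_powers x))

/-- A reduced algebra all of whose primes are maximal: elements of primes are locally zero. -/
theorem exists_notMem_mul_eq_zero_of_isIntegral {k T : Type*} [Field k] [CommRing T] [Algebra k T]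
    [Algebra.IsIntegral k T] [IsReduced T] (𝔫 : Ideal T) [h𝔫 : 𝔫.IsPrime] {x : T} (hx : x ∈ 𝔫) :
    ∃ s ∉ 𝔫, s * x = 0 := by
  refine exists_notMem_mul_eq_zero 𝔫 (fun 𝔭 h𝔭 hle => ?_) hx
  haveI := h𝔭
  have hcm : (𝔭.comap (algebraMap k T)).IsMaximal := by
    have : 𝔭.comap (algebraMap k T) = ⊥ := by
      rcases Ideal.eq_bot_or_top (𝔭.comap (algebraMap k T)) with h | h
      · exact h
      · exact absurd h (Ideal.comap_ne_top _ h𝔭.ne_top)
    rw [this]; exact Ideal.bot_isMaximal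
  have hmax : 𝔭.IsMaximal := Ideal.isMaximal_of_isIntegral_of_isMaximal_comap (R := k) 𝔭 hcm
  exact hmax.eq_of_le h𝔫.ne_top hle

section F3

variable {F : Type u} [Field F] (W : ValuationSubring F)
  {V₁ V₂ : Type u} [CommRing V₁] [IsLocalRing V₁] [CommRing V₂] [IsLocalRing V₂]
  (φ₁ : V₁ →+* F) (φ₂ : V₂ →+* F)

/-- The subring generated by the images of two rings. -/
def genRing : Subring F := Subring.closure (Set.range φ₁ ∪ Set.range φ₂)

theorem mem_genRing_left (v : V₁) : φ₁ v ∈ genRing φ₁ φ₂ :=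
  Subring.subset_closure (Or.inl ⟨v, rfl⟩)

theorem mem_genRing_right (v : V₂) : φ₂ v ∈ genRing φ₁ φ₂ :=
  Subring.subset_closure (Or.inr ⟨v, rfl⟩)

variable {W φ₁ φ₂}

theorem genRing_le (h₁ : EtRam.Dominates V₁ φ₁ W) (h₂ : EtRam.Dominates V₂ φ₂ W) :
    ∀ d ∈ genRing φ₁ φ₂, d ∈ W := by
  have : genRing φ₁ φ₂ ≤ W.toSubring := by
    apply Subring.closure_le.mpr
    rintro _ (⟨v, rfl⟩ | ⟨v, rfl⟩)
    · exact h₁.1 v
    · exact h₂.1 v
  exact fun d hd => this hd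

theorem f3_of_residue (h₁ : EtRam.Dominates V₁ φ₁ W) (h₂ : EtRam.Dominates V₂ φ₂ W) (ϖ : V₂)
    (k : Type u) [Field k] [Algebra k (ResidueField V₁)] [Algebra k (ResidueField V₂)]
    (hm₁ : ∀ v ∈ maximalIdeal V₁, ∃ d ∈ genRing φ₁ φ₂, φ₁ v = φ₂ ϖ * d)
    (hm₂ : maximalIdeal V₂ = Ideal.span {ϖ})
    (hk : ∀ c : k, ∃ v₁ v₂, algebraMap k (ResidueField V₁) c = residue V₁ v₁ ∧
      algebraMap k (ResidueField V₂) c = residue V₂ v₂ ∧ φ₁ v₁ = φ₂ v₂)
    (hP : ∀ 𝔫 : Ideal (ResidueField V₂ ⊗[k] ResidueField V₁), 𝔫.IsPrime → ∀ x ∈ 𝔫,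
      ∃ s ∉ 𝔫, s * x = 0) :
    ∀ x ∈ genRing φ₁ φ₂, W.valuation x < 1 →
      ∃ s ∈ genRing φ₁ φ₂, W.valuation s = 1 ∧ ∃ d ∈ genRing φ₁ φ₂, s * x = φ₂ ϖ * d := by
  set D := genRing φ₁ φ₂ with hD
  have hDW := genRing_le h₁ h₂
  let ϖD : D := ⟨φ₂ ϖ, mem_genRing_right φ₁ φ₂ ϖ⟩
  let J : Ideal D := Ideal.span {ϖD}
  let c₁ : V₁ →+* D := φ₁.codRestrict D (mem_genRing_left φ₁ φ₂)
  let c₂ : V₂ →+* D := φ₂.codRestrict D (mem_genRing_right φ₁ φ₂)
  let q : D →+* D ⧸ J := Ideal.Quotient.mk J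
  have hqϖ : q ϖD = 0 := Ideal.Quotient.eq_zero_iff_mem.mpr (Ideal.subset_span rfl)
  let ψ₁ : ResidueField V₁ →+* D ⧸ J := Ideal.Quotient.lift (maximalIdeal V₁) (q.comp c₁)
    (fun v hv => by
      obtain ⟨d, hd, e⟩ := hm₁ v hv
      show q (c₁ v) = 0
      have : c₁ v = ϖD * ⟨d, hd⟩ := Subtype.ext e
      rw [this, map_mul, hqϖ, zero_mul])
  let ψ₂ : ResidueField V₂ →+* D ⧸ J := Ideal.Quotient.lift (maximalIdeal V₂) (q.comp c₂)
    (fun v hv => by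
      rw [hm₂] at hv
      obtain ⟨v', rfl⟩ := Ideal.mem_span_singleton'.mp hv
      show q (c₂ (v' * ϖ)) = 0
      have : c₂ ϖ = ϖD := rfl
      rw [map_mul, map_mul, this, hqϖ, mul_zero])
  have hψ₁ : ∀ v, ψ₁ (residue V₁ v) = q (c₁ v) := fun v => rfl
  have hψ₂ : ∀ v, ψ₂ (residue V₂ v) = q (c₂ v) := fun v => rfl
  let ι : D →+* W := (D.subtype).codRestrict W (fun d => hDW d d.2)
  have hιϖ : residue W (ι ϖD) = 0 := by
    rw [IsLocalRing.residue_eq_zero_iff, W.valuation_lt_one_iff]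
    refine h₂.2 ϖ ?_
    rw [hm₂]; exact Ideal.subset_span rfl
  let ρ : D ⧸ J →+* ResidueField W := Ideal.Quotient.lift J ((residue W).comp ι) (by
    intro a ha
    obtain ⟨b, rfl⟩ := Ideal.mem_span_singleton'.mp ha
    show residue W (ι (b * ϖD)) = 0
    rw [map_mul, map_mul, hιϖ, mul_zero])
  have hρ : ∀ d : D, ρ (q d) = residue W (ι d) := fun d => rfl
  letI algQ : Algebra k (D ⧸ J) := (ψ₁.comp (algebraMap k (ResidueField V₁))).toAlgebra
  let ψ₁a : ResidueField V₁ →ₐ[k] D ⧸ J := { ψ₁ with commutes' := fun c => rfl }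
  let ψ₂a : ResidueField V₂ →ₐ[k] D ⧸ J :=
    { ψ₂ with
      commutes' := fun c => by
        obtain ⟨v₁, v₂, e₁, e₂, e⟩ := hk c
        show ψ₂ (algebraMap k (ResidueField V₂) c) = ψ₁ (algebraMap k (ResidueField V₁) c)
        rw [e₁, e₂, hψ₁, hψ₂]
        congr 1
        exact Subtype.ext e.symm }
  let Ψ : ResidueField V₂ ⊗[k] ResidueField V₁ →ₐ[k] D ⧸ J :=
    Algebra.TensorProduct.productMap ψ₂a ψ₁a
  have hΨ₁ : ∀ v : V₁, Ψ (1 ⊗ₜ residue V₁ v) = q (c₁ v) := fun v => by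
    simp [Ψ, ψ₁a, ψ₂a, Algebra.TensorProduct.productMap_apply_tmul, hψ₁]
  have hΨ₂ : ∀ v : V₂, Ψ (residue V₂ v ⊗ₜ 1) = q (c₂ v) := fun v => by
    simp [Ψ, ψ₁a, ψ₂a, Algebra.TensorProduct.productMap_apply_tmul, hψ₂]
  have hsurj : ∀ (y : F) (hy : y ∈ D), q ⟨y, hy⟩ ∈ Ψ.range := by
    intro y hy
    induction hy using Subring.closure_induction with
    | mem y hy =>
      rcases hy with ⟨v, rfl⟩ | ⟨v, rfl⟩
      · exact ⟨_, hΨ₁ v⟩
      · exact ⟨_, hΨ₂ v⟩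
    | zero => exact Ψ.range.zero_mem
    | one => exact Ψ.range.one_mem
    | add x y hx hy ihx ihy =>
      have : (⟨x + y, D.add_mem hx hy⟩ : D) = ⟨x, hx⟩ + ⟨y, hy⟩ := rfl
      rw [this, map_add]; exact Ψ.range.add_mem ihx ihy
    | neg x hx ihx =>
      have : (⟨-x, D.neg_mem hx⟩ : D) = -⟨x, hx⟩ := rfl
      rw [this, map_neg]; exact Ψ.range.neg_mem ihx
    | mul x y hx hy ihx ihy =>
      have : (⟨x * y, D.mul_mem hx hy⟩ : D) = ⟨x, hx⟩ * ⟨y, hy⟩ := rfl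
      rw [this, map_mul]; exact Ψ.range.mul_mem ihx ihy
  intro x hx hxv
  obtain ⟨t, ht0⟩ := hsurj x hx
  have ht : Ψ t = q ⟨x, hx⟩ := ht0
  let 𝔫 : Ideal (ResidueField V₂ ⊗[k] ResidueField V₁) :=
    Ideal.comap Ψ.toRingHom (RingHom.ker ρ)
  haveI : (RingHom.ker ρ).IsPrime := RingHom.ker_isPrime ρ
  have h𝔫 : 𝔫.IsPrime := Ideal.comap_isPrime _ _
  have ht𝔫 : t ∈ 𝔫 := by
    show ρ (Ψ t) = 0
    rw [ht, hρ, IsLocalRing.residue_eq_zero_iff, W.valuation_lt_one_iff]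
    exact hxv
  obtain ⟨s', hs', hs't⟩ := hP 𝔫 h𝔫 t ht𝔫
  obtain ⟨sD, hsD⟩ := Ideal.Quotient.mk_surjective (Ψ s')
  have hsv : W.valuation (sD : F) = 1 := by
    have h1 : ρ (Ψ s') ≠ 0 := hs'
    rw [← hsD, hρ] at h1
    have h2 : ¬ (W.valuation ((ι sD : W) : F) < 1) := by
      rw [← W.valuation_lt_one_iff, ← IsLocalRing.residue_eq_zero_iff]; exact h1
    have h3 : W.valuation (sD : F) ≤ 1 := (W.valuation_le_one_iff _).mpr (hDW _ sD.2)
    exact le_antisymm h3 (not_lt.mp h2)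
  have hmem : sD * ⟨x, hx⟩ ∈ J := by
    rw [← Ideal.Quotient.eq_zero_iff_mem, map_mul]
    show q sD * q ⟨x, hx⟩ = 0
    rw [hsD, ← ht, ← map_mul, hs't, map_zero]
  obtain ⟨d, hd⟩ := Ideal.mem_span_singleton'.mp hmem
  refine ⟨sD, sD.2, hsv, d, d.2, ?_⟩
  have := congrArg Subtype.val hd
  simp only [Subring.coe_mul] at this
  rw [← this, mul_comm]

end F3

end Groth.Agent.Lib.Helper18.Unram
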