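import Mathlib
import Groth.Agent.Lib.Helper18.Unram.ResPart

/-! # Adjoining a root of `X ^ e - c` to a reduced zero-dimensional ring -/

set_option autoImplicit false
set_option linter.style.haveILetI false

namespace Groth.Agent.Lib.Helper18.Unram

open Polynomial

/-- If a monic polynomial over a reduced ring is squarefree over the fraction field of every
prime quotient, then adjoining a root gives a reduced ring. -/
theorem isReduced_adjoinRoot_of_fiberwise_squarefree {T : Type*} [CommRing T] [IsReduced T]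
    (P : T[X]) (hP : P.Monic)
    (hsq : ∀ 𝔭 : Ideal T, 𝔭.IsPrime →
      Squarefree (P.map ((algebraMap (T ⧸ 𝔭) (FractionRing (T ⧸ 𝔭))).comp
        (Ideal.Quotient.mk 𝔭)))) :
    IsReduced (AdjoinRoot P) := by
  constructor
  intro y hy
  rcases subsingleton_or_nontrivial T with hT | hT
  · haveI : Subsingleton (AdjoinRoot P) := Module.subsingleton T _
    exact Subsingleton.elim _ _
  obtain ⟨q₀, rfl⟩ := AdjoinRoot.mk_surjective y
  -- replace `q₀` by its remainder
  set q := q₀ %ₘ P with hq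
  have hmk : AdjoinRoot.mk P q₀ = AdjoinRoot.mk P q := by
    rw [AdjoinRoot.mk_eq_mk]
    refine ⟨q₀ /ₘ P, ?_⟩
    have := Polynomial.modByMonic_add_div q₀ P
    rw [hq]
    linear_combination -this
  rw [hmk] at hy ⊢
  obtain ⟨n, hn⟩ := hy
  rw [← map_pow, AdjoinRoot.mk_eq_zero] at hn
  rcases Nat.eq_zero_or_pos n with rfl | hnpos
  · rw [pow_zero] at hn
    have h1 : (1 : AdjoinRoot P) = 0 := by
      rw [← map_one (AdjoinRoot.mk P), AdjoinRoot.mk_eq_zero]; exact hn
    rw [← mul_one (AdjoinRoot.mk P q), h1, mul_zero]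
  have hdeg : q.degree < P.degree := Polynomial.degree_modByMonic_lt q₀ hP
  have hq0 : q = 0 := by
    ext i
    rw [Polynomial.coeff_zero]
    have hmem : q.coeff i ∈ nilradical T := by
      rw [nilradical_eq_sInf, Ideal.mem_sInf]
      intro 𝔭 h𝔭
      have h𝔭' : 𝔭.IsPrime := h𝔭
      haveI := h𝔭'
      set ψ : T →+* FractionRing (T ⧸ 𝔭) :=
        (algebraMap (T ⧸ 𝔭) (FractionRing (T ⧸ 𝔭))).comp (Ideal.Quotient.mk 𝔭) with hψ
      have hdvd : P.map ψ ∣ (q.map ψ) ^ n := by
        rw [← Polynomial.map_pow]; exact Polynomial.map_dvd ψ hn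
      have hdvd' : P.map ψ ∣ q.map ψ :=
        ((hsq 𝔭 h𝔭').dvd_pow_iff_dvd hnpos.ne').mp hdvd
      have hPψ : (P.map ψ).Monic := hP.map ψ
      have hzero : q.map ψ = 0 := by
        apply Polynomial.eq_zero_of_dvd_of_degree_lt hdvd'
        calc (q.map ψ).degree ≤ q.degree := Polynomial.degree_map_le
          _ < P.degree := hdeg
          _ = (P.map ψ).degree := (hP.degree_map ψ).symm
      have hci : ψ (q.coeff i) = 0 := by
        rw [← Polynomial.coeff_map, hzero, Polynomial.coeff_zero]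
      rw [hψ, RingHom.comp_apply,
        map_eq_zero_iff _ (IsFractionRing.injective (T ⧸ 𝔭) (FractionRing (T ⧸ 𝔭))),
        Ideal.Quotient.eq_zero_iff_mem] at hci
      exact hci
    rw [nilradical_eq_zero] at hmem
    exact hmem
  rw [hq0, map_zero]

/-- Adjoining an `e`-th root of a unit to a reduced ring all of whose primes are maximal, `e`
invertible: elements of primes are locally zero. -/
theorem hP_adjoinRoot {T : Type*} [CommRing T] [IsReduced T]
    (hmax : ∀ 𝔭 : Ideal T, 𝔭.IsPrime → 𝔭.IsMaximal) (e : ℕ) (he : 0 < e) (heu : IsUnit (e : T))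
    (c : T) (hc : IsUnit c) :
    ∀ 𝔫 : Ideal (AdjoinRoot (X ^ e - C c : T[X])), 𝔫.IsPrime → ∀ x ∈ 𝔫, ∃ s ∉ 𝔫, s * x = 0 := by
  have hmonic : (X ^ e - C c : T[X]).Monic := Polynomial.monic_X_pow_sub_C c he.ne'
  haveI : IsReduced (AdjoinRoot (X ^ e - C c : T[X])) := by
    apply isReduced_adjoinRoot_of_fiberwise_squarefree _ hmonic
    intro 𝔭 h𝔭
    haveI := h𝔭
    set ψ : T →+* FractionRing (T ⧸ 𝔭) :=
      (algebraMap (T ⧸ 𝔭) (FractionRing (T ⧸ 𝔭))).comp (Ideal.Quotient.mk 𝔭) with hψ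
    have h1 : (X ^ e - C c : T[X]).map ψ = X ^ e - C (ψ c) := by
      simp
    rw [h1]
    apply Polynomial.Separable.squarefree
    apply Polynomial.separable_X_pow_sub_C
    · have := heu.map ψ
      rw [map_natCast] at this
      exact this.ne_zero
    · exact (hc.map ψ).ne_zero
  haveI : Module.Finite T (AdjoinRoot (X ^ e - C c : T[X])) := hmonic.finite_adjoinRoot
  haveI : Algebra.IsIntegral T (AdjoinRoot (X ^ e - C c : T[X])) := Algebra.IsIntegral.of_finite _ _
  intro 𝔫 h𝔫 x hx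
  haveI := h𝔫
  refine exists_notMem_mul_eq_zero 𝔫 (fun 𝔭 h𝔭 hle => ?_) hx
  haveI := h𝔭
  have hcm : (𝔭.comap (algebraMap T (AdjoinRoot (X ^ e - C c : T[X])))).IsMaximal :=
    hmax _ (Ideal.comap_isPrime _ _)
  have hmax' : 𝔭.IsMaximal := Ideal.isMaximal_of_isIntegral_of_isMaximal_comap (R := T) 𝔭 hcm
  exact hmax'.eq_of_le h𝔫.ne_top hle

end Groth.Agent.Lib.Helper18.Unram
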