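import Mathlib
import Groth.Prelude.Def_EtRam
import Groth.Agent.Lib.Helper18.Unram.ResPart
import Groth.Agent.Lib.Helper18.Unram.Root

/-! # The residue-field part with an extra root of a unit adjoined -/

set_option autoImplicit false
set_option linter.style.haveILetI false

namespace Groth.Agent.Lib.Helper18.Unram

open IsLocalRing TensorProduct Polynomial

universe u

section General

variable {F : Type u} [Field F] {W : ValuationSubring F}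

/-- Units of a dominated local ring have value one. -/
theorem val_of_isUnit' {V : Type u} [CommRing V] [IsLocalRing V] {g : V →+* F}
    (hg : EtRam.Dominates V g W) {b : V} (hb : IsUnit b) : W.valuation (g b) = 1 := by
  obtain ⟨u, rfl⟩ := hb
  have h1 : W.valuation (g u) ≤ 1 := (W.valuation_le_one_iff _).mpr (hg.1 u)
  have h2 : W.valuation (g (u⁻¹ : Vˣ)) ≤ 1 := (W.valuation_le_one_iff _).mpr (hg.1 _)
  have h3 : W.valuation (g u) * W.valuation (g (u⁻¹ : Vˣ)) = 1 := by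
    rw [← map_mul, ← map_mul, Units.mul_inv, map_one, map_one]
  by_contra hne
  have hlt : W.valuation (g u) < 1 := lt_of_le_of_ne h1 hne
  have : W.valuation (g u) * W.valuation (g (u⁻¹ : Vˣ)) < 1 := by
    calc W.valuation (g u) * W.valuation (g (u⁻¹ : Vˣ)) ≤ W.valuation (g u) * 1 :=
          mul_le_mul_right h2 _
      _ = W.valuation (g u) := mul_one _
      _ < 1 := hlt
  rw [h3] at this
  exact lt_irrefl _ this

/-- The key property of a subring `D` of `W` from a surjection of a ring with locally-zero primes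
onto `D / ϖ D`. -/
theorem f3_of_surjective (D : Subring F) (hDW : ∀ d ∈ D, d ∈ W) (ϖD : F) (hϖD : ϖD ∈ D)
    (hϖv : W.valuation ϖD < 1) {T₀ : Type*} [CommRing T₀]
    (hP : ∀ 𝔫 : Ideal T₀, 𝔫.IsPrime → ∀ x ∈ 𝔫, ∃ s ∉ 𝔫, s * x = 0)
    (J : Ideal D) (hJ : J = Ideal.span {(⟨ϖD, hϖD⟩ : D)})
    (Ψ : T₀ →+* D ⧸ J) (hΨ : Function.Surjective Ψ) :
    ∀ x ∈ D, W.valuation x < 1 → ∃ s ∈ D, W.valuation s = 1 ∧ ∃ d ∈ D, s * x = ϖD * d := by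
  let q : D →+* D ⧸ J := Ideal.Quotient.mk J
  let ι : D →+* W := (D.subtype).codRestrict W (fun d => hDW d d.2)
  have hιϖ : residue W (ι ⟨ϖD, hϖD⟩) = 0 := by
    rw [IsLocalRing.residue_eq_zero_iff, W.valuation_lt_one_iff]
    exact hϖv
  let ρ : D ⧸ J →+* ResidueField W := Ideal.Quotient.lift J ((residue W).comp ι) (by
    intro a ha
    rw [hJ] at ha
    obtain ⟨b, rfl⟩ := Ideal.mem_span_singleton'.mp ha
    show residue W (ι (b * ⟨ϖD, hϖD⟩)) = 0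
    rw [map_mul, map_mul, hιϖ, mul_zero])
  have hρ : ∀ d : D, ρ (q d) = residue W (ι d) := fun d => rfl
  intro x hx hxv
  obtain ⟨t, ht⟩ := hΨ (q ⟨x, hx⟩)
  let 𝔫 : Ideal T₀ := Ideal.comap Ψ (RingHom.ker ρ)
  haveI : (RingHom.ker ρ).IsPrime := RingHom.ker_isPrime ρ
  have h𝔫 : 𝔫.IsPrime := Ideal.comap_isPrime _ _
  have ht𝔫 : t ∈ 𝔫 := by
    show ρ (Ψ t) = 0
    rw [ht, hρ, IsLocalRing.residue_eq_zero_iff, W.valuation_lt_one_iff]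
    exact hxv
  obtain ⟨s', hs', hs't⟩ := hP 𝔫 h𝔫 t ht𝔫
  obtain ⟨sD, hsD⟩ := Ideal.Quotient.mk_surjective (Ψ s')
  have hsv : W.valuation (sD : F) = 1 := by
    have h1 : ρ (Ψ s') ≠ 0 := hs'
    rw [← hsD, hρ] at h1
    have h2 : ¬ (W.valuation ((ι sD : W) : F) < 1) := by
      rw [← W.valuation_lt_one_iff, ← IsLocalRing.residue_eq_zero_iff]; exact h1
    have h3 : W.valuation (sD : F) ≤ 1 := (W.valuation_le_one_iff _).mpr (hDW _ sD.2)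
    exact le_antisymm h3 (not_lt.mp h2)
  have hmem : sD * ⟨x, hx⟩ ∈ J := by
    rw [← Ideal.Quotient.eq_zero_iff_mem, map_mul]
    show q sD * q ⟨x, hx⟩ = 0
    rw [hsD, ← ht, ← map_mul, hs't, map_zero]
  rw [hJ] at hmem
  obtain ⟨d, hd⟩ := Ideal.mem_span_singleton'.mp hmem
  refine ⟨sD, sD.2, hsv, d, d.2, ?_⟩
  have := congrArg Subtype.val hd
  simp only [Subring.coe_mul] at this
  rw [← this, mul_comm]

end General

section Res

variable {F : Type u} [Field F] {W : ValuationSubring F}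
  {V₁ V₂ : Type u} [CommRing V₁] [IsLocalRing V₁] [CommRing V₂] [IsLocalRing V₂]
  {φ₁ : V₁ →+* F} {φ₂ : V₂ →+* F}

/-- The map from the tensor product of the residue fields to `D / ϖ D`. -/
theorem exists_residue_map (D : Subring F) (hD₁ : ∀ v, φ₁ v ∈ D) (hD₂ : ∀ v, φ₂ v ∈ D) (ϖ : V₂)
    (k : Type u) [Field k] [Algebra k (ResidueField V₁)] [Algebra k (ResidueField V₂)]
    (hm₁ : ∀ v ∈ maximalIdeal V₁, ∃ d ∈ D, φ₁ v = φ₂ ϖ * d)
    (hm₂ : maximalIdeal V₂ = Ideal.span {ϖ})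
    (hk : ∀ c : k, ∃ v₁ v₂, algebraMap k (ResidueField V₁) c = residue V₁ v₁ ∧
      algebraMap k (ResidueField V₂) c = residue V₂ v₂ ∧ φ₁ v₁ = φ₂ v₂) :
    ∃ Ψ : ResidueField V₂ ⊗[k] ResidueField V₁ →+* D ⧸ Ideal.span {(⟨φ₂ ϖ, hD₂ ϖ⟩ : D)},
      (∀ v : V₁, Ψ (1 ⊗ₜ residue V₁ v) = Ideal.Quotient.mk _ ⟨φ₁ v, hD₁ v⟩) ∧
      (∀ v : V₂, Ψ (residue V₂ v ⊗ₜ 1) = Ideal.Quotient.mk _ ⟨φ₂ v, hD₂ v⟩) := by
  let ϖD : D := ⟨φ₂ ϖ, hD₂ ϖ⟩
  let J : Ideal D := Ideal.span {ϖD}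
  let c₁ : V₁ →+* D := φ₁.codRestrict D hD₁
  let c₂ : V₂ →+* D := φ₂.codRestrict D hD₂
  let q : D →+* D ⧸ J := Ideal.Quotient.mk J
  have hqϖ : q ϖD = 0 := Ideal.Quotient.eq_zero_iff_mem.mpr (Ideal.subset_span rfl)
  let ψ₁ : ResidueField V₁ →+* D ⧸ J := Ideal.Quotient.lift (maximalIdeal V₁) (q.comp c₁)
    (fun v hv => by
      obtain ⟨d, hd, e⟩ := hm₁ v hv
      show q (c₁ v) = 0
      have : c₁ v = ϖD * ⟨d, hd⟩ := Subtype.ext e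
      rw [this, map_mul, hqϖ, zero_mul])
  let ψ₂ : ResidueField V₂ →+* D ⧸ J := Ideal.Quotient.lift (maximalIdeal V₂) (q.comp c₂)
    (fun v hv => by
      rw [hm₂] at hv
      obtain ⟨v', rfl⟩ := Ideal.mem_span_singleton'.mp hv
      show q (c₂ (v' * ϖ)) = 0
      have : c₂ ϖ = ϖD := rfl
      rw [map_mul, map_mul, this, hqϖ, mul_zero])
  have hψ₁ : ∀ v, ψ₁ (residue V₁ v) = q (c₁ v) := fun v => rfl
  have hψ₂ : ∀ v, ψ₂ (residue V₂ v) = q (c₂ v) := fun v => rfl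
  letI algQ : Algebra k (D ⧸ J) := (ψ₁.comp (algebraMap k (ResidueField V₁))).toAlgebra
  let ψ₁a : ResidueField V₁ →ₐ[k] D ⧸ J := { ψ₁ with commutes' := fun c => rfl }
  let ψ₂a : ResidueField V₂ →ₐ[k] D ⧸ J :=
    { ψ₂ with
      commutes' := fun c => by
        obtain ⟨v₁, v₂, e₁, e₂, e⟩ := hk c
        show ψ₂ (algebraMap k (ResidueField V₂) c) = ψ₁ (algebraMap k (ResidueField V₁) c)
        rw [e₁, e₂, hψ₁, hψ₂]
        congr 1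
        exact Subtype.ext e.symm }
  let Ψ : ResidueField V₂ ⊗[k] ResidueField V₁ →ₐ[k] D ⧸ J :=
    Algebra.TensorProduct.productMap ψ₂a ψ₁a
  refine ⟨Ψ.toRingHom, fun v => ?_, fun v => ?_⟩
  · show Ψ (1 ⊗ₜ residue V₁ v) = _
    simp [Ψ, ψ₁a, ψ₂a, Algebra.TensorProduct.productMap_apply_tmul, hψ₁]
    rfl
  · show Ψ (residue V₂ v ⊗ₜ 1) = _
    simp [Ψ, ψ₁a, ψ₂a, Algebra.TensorProduct.productMap_apply_tmul, hψ₂]
    rfl

end Res

section Root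

variable {F : Type u} [Field F] {W : ValuationSubring F}
  {V₁ V₂ : Type u} [CommRing V₁] [IsLocalRing V₁] [CommRing V₂] [IsLocalRing V₂]
  (φ₁ : V₁ →+* F) (φ₂ : V₂ →+* F)

/-- The subring generated by the images of two rings and one more element. -/
def genRingRoot (θ : F) : Subring F := Subring.closure (Set.range φ₁ ∪ Set.range φ₂ ∪ {θ})

theorem mem_genRingRoot_left (θ : F) (v : V₁) : φ₁ v ∈ genRingRoot φ₁ φ₂ θ :=
  Subring.subset_closure (Or.inl (Or.inl ⟨v, rfl⟩))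

theorem mem_genRingRoot_right (θ : F) (v : V₂) : φ₂ v ∈ genRingRoot φ₁ φ₂ θ :=
  Subring.subset_closure (Or.inl (Or.inr ⟨v, rfl⟩))

theorem mem_genRingRoot_root (θ : F) : θ ∈ genRingRoot φ₁ φ₂ θ :=
  Subring.subset_closure (Or.inr rfl)

variable {φ₁ φ₂}

theorem val_root_eq_one (h₁ : EtRam.Dominates V₁ φ₁ W) (h₂ : EtRam.Dominates V₂ φ₂ W)
    (θ : F) (e : ℕ) (he : 0 < e) (u₁ : V₁) (u₂ : V₂) (hu₁ : IsUnit u₁) (hu₂ : IsUnit u₂)
    (hθ : θ ^ e = φ₂ u₂ * φ₁ u₁) : W.valuation θ = 1 := by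
  have h1 : W.valuation θ ^ e = 1 := by
    rw [← map_pow, hθ, map_mul, val_of_isUnit' h₁ hu₁, val_of_isUnit' h₂ hu₂, one_mul]
  rcases lt_trichotomy (W.valuation θ) 1 with h | h | h
  · exact absurd h1 (ne_of_lt (pow_lt_one₀ zero_le' h he.ne'))
  · exact h
  · exact absurd h1 (ne_of_gt (one_lt_pow₀ h he.ne'))

theorem genRingRoot_le (h₁ : EtRam.Dominates V₁ φ₁ W) (h₂ : EtRam.Dominates V₂ φ₂ W)
    (θ : F) (hθW : θ ∈ W) : ∀ d ∈ genRingRoot φ₁ φ₂ θ, d ∈ W := by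
  have : genRingRoot φ₁ φ₂ θ ≤ W.toSubring := by
    apply Subring.closure_le.mpr
    rintro _ ((⟨v, rfl⟩ | ⟨v, rfl⟩) | rfl)
    · exact h₁.1 v
    · exact h₂.1 v
    · exact hθW
  exact fun d hd => this hd

theorem f3_of_residue_root (h₁ : EtRam.Dominates V₁ φ₁ W) (h₂ : EtRam.Dominates V₂ φ₂ W) (ϖ : V₂)
    (k : Type u) [Field k] [Algebra k (ResidueField V₁)] [Algebra k (ResidueField V₂)]
    (θ : F) (e : ℕ) (he : 0 < e) (u₁ : V₁) (u₂ : V₂) (hu₁ : IsUnit u₁) (hu₂ : IsUnit u₂)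
    (hθ : θ ^ e = φ₂ u₂ * φ₁ u₁)
    (hm₁ : ∀ v ∈ maximalIdeal V₁, ∃ d ∈ genRingRoot φ₁ φ₂ θ, φ₁ v = φ₂ ϖ * d)
    (hm₂ : maximalIdeal V₂ = Ideal.span {ϖ})
    (hk : ∀ c : k, ∃ v₁ v₂, algebraMap k (ResidueField V₁) c = residue V₁ v₁ ∧
      algebraMap k (ResidueField V₂) c = residue V₂ v₂ ∧ φ₁ v₁ = φ₂ v₂)
    [IsReduced (ResidueField V₂ ⊗[k] ResidueField V₁)]
    (hmax : ∀ 𝔭 : Ideal (ResidueField V₂ ⊗[k] ResidueField V₁), 𝔭.IsPrime → 𝔭.IsMaximal)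
    (heu : IsUnit ((e : ℕ) : ResidueField V₂ ⊗[k] ResidueField V₁)) :
    ∀ x ∈ genRingRoot φ₁ φ₂ θ, W.valuation x < 1 →
      ∃ s ∈ genRingRoot φ₁ φ₂ θ, W.valuation s = 1 ∧
        ∃ d ∈ genRingRoot φ₁ φ₂ θ, s * x = φ₂ ϖ * d := by
  set D := genRingRoot φ₁ φ₂ θ with hD
  have hθv := val_root_eq_one h₁ h₂ θ e he u₁ u₂ hu₁ hu₂ hθ
  have hθW : θ ∈ W := (W.valuation_le_one_iff θ).mp hθv.le
  have hDW := genRingRoot_le h₁ h₂ θ hθW
  obtain ⟨Ψ, hΨ₁, hΨ₂⟩ := exists_residue_map (φ₁ := φ₁) (φ₂ := φ₂) D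
    (mem_genRingRoot_left φ₁ φ₂ θ) (mem_genRingRoot_right φ₁ φ₂ θ) ϖ k hm₁ hm₂ hk
  let J : Ideal D := Ideal.span {(⟨φ₂ ϖ, mem_genRingRoot_right φ₁ φ₂ θ ϖ⟩ : D)}
  set c : ResidueField V₂ ⊗[k] ResidueField V₁ := residue V₂ u₂ ⊗ₜ residue V₁ u₁ with hc
  have hcu : IsUnit c := by
    have h1 : IsUnit (residue V₂ u₂) := hu₂.map _
    have h2 : IsUnit (residue V₁ u₁) := hu₁.map _
    obtain ⟨a, ha⟩ := h1
    obtain ⟨b, hb⟩ := h2
    rw [hc, ← ha, ← hb]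
    refine ⟨⟨(a : ResidueField V₂) ⊗ₜ (b : ResidueField V₁),
      ((a⁻¹ : (ResidueField V₂)ˣ) : ResidueField V₂) ⊗ₜ
        ((b⁻¹ : (ResidueField V₁)ˣ) : ResidueField V₁), ?_, ?_⟩, rfl⟩
    · rw [Algebra.TensorProduct.tmul_mul_tmul, Units.mul_inv, Units.mul_inv,
        Algebra.TensorProduct.one_def]
    · rw [Algebra.TensorProduct.tmul_mul_tmul, Units.inv_mul, Units.inv_mul,
        Algebra.TensorProduct.one_def]
  let θD : D := ⟨θ, mem_genRingRoot_root φ₁ φ₂ θ⟩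
  let q : D →+* D ⧸ J := Ideal.Quotient.mk J
  have hΨc : Ψ c = q (⟨φ₂ u₂, mem_genRingRoot_right φ₁ φ₂ θ u₂⟩ *
      ⟨φ₁ u₁, mem_genRingRoot_left φ₁ φ₂ θ u₁⟩) := by
    have : c = (residue V₂ u₂ ⊗ₜ 1) * (1 ⊗ₜ residue V₁ u₁) := by
      rw [hc, Algebra.TensorProduct.tmul_mul_tmul, mul_one, one_mul]
    rw [this, map_mul, hΨ₁, hΨ₂, ← map_mul]
  have hroot : Polynomial.eval₂ Ψ (q θD) (X ^ e - C c : (ResidueField V₂ ⊗[k] ResidueField V₁)[X])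
      = 0 := by
    rw [Polynomial.eval₂_sub, Polynomial.eval₂_pow, Polynomial.eval₂_X, Polynomial.eval₂_C, hΨc,
      ← map_pow, sub_eq_zero]
    congr 1
    exact Subtype.ext hθ
  let Ψ' : AdjoinRoot (X ^ e - C c : (ResidueField V₂ ⊗[k] ResidueField V₁)[X]) →+* D ⧸ J :=
    AdjoinRoot.lift Ψ (q θD) hroot
  have hΨ'of : ∀ t, Ψ' (AdjoinRoot.of _ t) = Ψ t := fun t => AdjoinRoot.lift_of hroot
  have hΨ'root : Ψ' (AdjoinRoot.root _) = q θD := AdjoinRoot.lift_root hroot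
  have hsurj : Function.Surjective Ψ' := by
    intro z
    obtain ⟨⟨y, hy⟩, rfl⟩ := Ideal.Quotient.mk_surjective z
    show q ⟨y, hy⟩ ∈ Ψ'.range
    induction hy using Subring.closure_induction with
    | mem y hy =>
      rcases hy with (⟨v, rfl⟩ | ⟨v, rfl⟩) | rfl
      · exact ⟨AdjoinRoot.of _ (1 ⊗ₜ residue V₁ v), by rw [hΨ'of, hΨ₁]⟩
      · exact ⟨AdjoinRoot.of _ (residue V₂ v ⊗ₜ 1), by rw [hΨ'of, hΨ₂]⟩
      · exact ⟨AdjoinRoot.root _, hΨ'root⟩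
    | zero => exact Ψ'.range.zero_mem
    | one => exact Ψ'.range.one_mem
    | add x y hx hy ihx ihy =>
      have : (⟨x + y, D.add_mem hx hy⟩ : D) = ⟨x, hx⟩ + ⟨y, hy⟩ := rfl
      rw [this, map_add]; exact Ψ'.range.add_mem ihx ihy
    | neg x hx ihx =>
      have : (⟨-x, D.neg_mem hx⟩ : D) = -⟨x, hx⟩ := rfl
      rw [this, map_neg]; exact Ψ'.range.neg_mem ihx
    | mul x y hx hy ihx ihy =>
      have : (⟨x * y, D.mul_mem hx hy⟩ : D) = ⟨x, hx⟩ * ⟨y, hy⟩ := rfl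
      rw [this, map_mul]; exact Ψ'.range.mul_mem ihx ihy
  have hP' := hP_adjoinRoot hmax e he heu c hcu
  exact f3_of_surjective D hDW (φ₂ ϖ) (mem_genRingRoot_right φ₁ φ₂ θ ϖ) (h₂.2 ϖ (by
    rw [hm₂]; exact Ideal.subset_span rfl)) hP' J rfl Ψ' hsurj

end Root

end Groth.Agent.Lib.Helper18.Unram
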