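import Mathlib
import Groth.Prelude.Def_EtRam
import Groth.Agent.Lib.Helper18.Unram.ValPart
import Groth.Agent.Lib.Helper18.Unram.ResRoot

/-! # Generation of the residue field and separability after adjoining a root of a unit -/

set_option autoImplicit false
set_option linter.style.haveILetI false

namespace Groth.Agent.Lib.Helper18.Unram

open IsLocalRing Polynomial

universe u

section Gen

variable {F : Type u} [Field F] {W : ValuationSubring F} {D : Subring F} {ϖ : F}

/-- The residue field of `W` is generated, as a field, by the residues of `D`. -/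
theorem UData.residue_mem_subfield (hU : UData W D ϖ) (S : Subfield (ResidueField W))
    (hS : ∀ d (hd : d ∈ D), residue W ⟨d, hU.hDW d hd⟩ ∈ S) (x : ResidueField W) : x ∈ S := by
  obtain ⟨x, rfl⟩ := residue_surjective x
  by_cases hxm : x ∈ maximalIdeal W
  · rw [(residue_eq_zero_iff x).mpr hxm]; exact S.zero_mem
  · have hxv : W.valuation (x : F) = 1 := by
      rw [W.valuation_lt_one_iff] at hxm
      exact le_antisymm ((W.valuation_le_one_iff _).mpr x.2) (not_lt.mp hxm)
    obtain ⟨t, ht, s, hs, htv, hsv, e⟩ := hU.exists_eq_div (x : F) hxv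
    have hs0 : s ≠ 0 := by
      intro h0; rw [h0, map_zero] at hsv; exact zero_ne_one hsv
    have hsbar : residue W ⟨s, hU.hDW s hs⟩ ≠ 0 := by
      rw [Ne, residue_eq_zero_iff, W.valuation_lt_one_iff, hsv]
      exact lt_irrefl _
    have hmul : residue W x * residue W ⟨s, hU.hDW s hs⟩ = residue W ⟨t, hU.hDW t ht⟩ := by
      rw [← map_mul]
      congr 1
      apply Subtype.ext
      show (x : F) * s = t
      rw [e, div_mul_cancel₀ _ hs0]
    have : residue W x = residue W ⟨t, hU.hDW t ht⟩ * (residue W ⟨s, hU.hDW s hs⟩)⁻¹ := by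
      rw [← hmul, mul_assoc, mul_inv_cancel₀ hsbar, mul_one]
    rw [this]
    exact S.mul_mem (hS t ht) (S.inv_mem (hS s hs))

end Gen

section GenRoot

variable {F : Type u} [Field F] {W : ValuationSubring F}
  {V₁ V₂ : Type u} [CommRing V₁] [IsLocalRing V₁] [CommRing V₂] [IsLocalRing V₂]
  (φ₁ : V₁ →+* F) (φ₂ : V₂ →+* F) (θ : F)

theorem residue_genRingRoot_mem (hDW : ∀ d ∈ genRingRoot φ₁ φ₂ θ, d ∈ W)
    (S : Subring (ResidueField W))
    (h₁ : ∀ v, residue W ⟨φ₁ v, hDW _ (mem_genRingRoot_left φ₁ φ₂ θ v)⟩ ∈ S)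
    (h₂ : ∀ v, residue W ⟨φ₂ v, hDW _ (mem_genRingRoot_right φ₁ φ₂ θ v)⟩ ∈ S)
    (hθ : residue W ⟨θ, hDW _ (mem_genRingRoot_root φ₁ φ₂ θ)⟩ ∈ S) :
    ∀ d (hd : d ∈ genRingRoot φ₁ φ₂ θ), residue W ⟨d, hDW d hd⟩ ∈ S := by
  intro d hd
  induction hd using Subring.closure_induction with
  | mem d hd =>
    rcases hd with (⟨b, rfl⟩ | ⟨v, rfl⟩) | rfl
    · exact h₁ b
    · exact h₂ v
    · exact hθ
  | zero =>
    have : (⟨0, hDW 0 (genRingRoot φ₁ φ₂ θ).zero_mem⟩ : W) = 0 := rfl
    rw [this, map_zero]; exact S.zero_mem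
  | one =>
    have : (⟨1, hDW 1 (genRingRoot φ₁ φ₂ θ).one_mem⟩ : W) = 1 := rfl
    rw [this, map_one]; exact S.one_mem
  | add x y hx hy ihx ihy =>
    have : (⟨x + y, hDW _ ((genRingRoot φ₁ φ₂ θ).add_mem hx hy)⟩ : W) =
        ⟨x, hDW x hx⟩ + ⟨y, hDW y hy⟩ := rfl
    rw [this, map_add]; exact S.add_mem ihx ihy
  | neg x hx ihx =>
    have : (⟨-x, hDW _ ((genRingRoot φ₁ φ₂ θ).neg_mem hx)⟩ : W) = -⟨x, hDW x hx⟩ := rfl
    rw [this, map_neg]; exact S.neg_mem ihx
  | mul x y hx hy ihx ihy =>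
    have : (⟨x * y, hDW _ ((genRingRoot φ₁ φ₂ θ).mul_mem hx hy)⟩ : W) =
        ⟨x, hDW x hx⟩ * ⟨y, hDW y hy⟩ := rfl
    rw [this, map_mul]; exact S.mul_mem ihx ihy

end GenRoot

section FieldTheory

/-- A field generated over `κ₂` by the image of a separable extension `κ₁` of a common subfield and
an `e`-th root of a nonzero element of their compositum, `e` invertible, is separable over `κ₂`. -/
theorem isSeparable_of_root_generators {k κ₁ κ₂ Q : Type*} [Field k] [Field κ₁] [Field κ₂]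
    [Field Q] [Algebra k κ₁] [Algebra k κ₂] [Algebra κ₂ Q] [Algebra.IsSeparable k κ₁]
    (r₁ : κ₁ →+* Q)
    (hcompat : ∀ c : k, r₁ (algebraMap k κ₁ c) = algebraMap κ₂ Q (algebraMap k κ₂ c))
    (θ : Q) (e : ℕ) (he : (e : Q) ≠ 0) (a : κ₂) (b : κ₁) (ha : a ≠ 0) (hb : b ≠ 0)
    (hθ : θ ^ e = algebraMap κ₂ Q a * r₁ b)
    (hgen : ∀ S : Subfield Q, (∀ x, algebraMap κ₂ Q x ∈ S) → (∀ x, r₁ x ∈ S) → θ ∈ S →
      ∀ x, x ∈ S) :
    Algebra.IsSeparable κ₂ Q := by
  letI algkQ : Algebra k Q := ((algebraMap κ₂ Q).comp (algebraMap k κ₂)).toAlgebra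
  haveI : IsScalarTower k κ₂ Q := IsScalarTower.of_algebraMap_eq (fun _ => rfl)
  let r₁a : κ₁ →ₐ[k] Q := { r₁ with commutes' := fun c => hcompat c }
  set S := separableClosure κ₂ Q with hS
  have h1 : ∀ x : κ₁, r₁ x ∈ S := by
    intro x
    rw [hS, mem_separableClosure_iff]
    have hx : IsSeparable k x := Algebra.IsSeparable.isSeparable k x
    have hx' : IsSeparable k (r₁a x) := hx.map r₁a r₁a.toRingHom.injective
    exact hx'.tower_top κ₂
  have h2 : ∀ x : κ₂, algebraMap κ₂ Q x ∈ S := fun x => S.algebraMap_mem x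
  have hc : algebraMap κ₂ Q a * r₁ b ∈ S := S.mul_mem (h2 a) (h1 b)
  have hθS : θ ∈ S := by
    let c : S := ⟨algebraMap κ₂ Q a * r₁ b, hc⟩
    have hc0 : c ≠ 0 := by
      intro h0
      have : algebraMap κ₂ Q a * r₁ b = 0 := congrArg Subtype.val h0
      rcases mul_eq_zero.mp this with h | h
      · exact ha ((map_eq_zero _).mp h)
      · exact hb ((map_eq_zero _).mp h)
    have heS : ((e : ℕ) : S) ≠ 0 := by
      intro h0
      apply he
      have := congrArg (algebraMap S Q) h0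
      rwa [map_natCast, map_zero] at this
    have hsep : (X ^ e - C c : S[X]).Separable := separable_X_pow_sub_C c heS hc0
    have hroot : Polynomial.aeval θ (X ^ e - C c : S[X]) = 0 := by
      rw [map_sub, map_pow, aeval_X, aeval_C, hθ, sub_eq_zero]
      rfl
    have hsepθ : IsSeparable S θ := hsep.of_dvd (minpoly.dvd S θ hroot)
    have hmem : θ ∈ separableClosure S Q := mem_separableClosure_iff.mpr hsepθ
    rw [hS, separableClosure.separableClosure_eq_bot, IntermediateField.mem_bot] at hmem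
    obtain ⟨s, hs⟩ := hmem
    rw [← hs]
    exact s.2
  have hall := hgen S.toSubfield h2 h1 hθS
  rw [← separableClosure.eq_top_iff]
  rw [eq_top_iff]
  intro x _
  exact hall x

end FieldTheory

end Groth.Agent.Lib.Helper18.Unram
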