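import Mathlib
import Groth.Prelude.Def_EtRam
import Groth.Agent.Lib.Helper18.Eis.TotRam

/-! # Separatedness of a valuation ring algebraic over a discrete valuation ring -/

set_option autoImplicit false
set_option linter.style.haveILetI false

namespace Groth.Agent.Lib.Helper18.Unram

open IsLocalRing Polynomial

universe u

section Sep

variable {B F : Type u} [CommRing B] [IsDomain B] [IsDiscreteValuationRing B] [Field F]
  {W : ValuationSubring F} {g : B →+* F}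

theorem val_of_isUnit (hg : EtRam.Dominates B g W) {b : B} (hb : IsUnit b) :
    W.valuation (g b) = 1 := by
  obtain ⟨u, rfl⟩ := hb
  have h1 : W.valuation (g u) ≤ 1 := (W.valuation_le_one_iff _).mpr (hg.1 u)
  have h2 : W.valuation (g (u⁻¹ : Bˣ)) ≤ 1 := (W.valuation_le_one_iff _).mpr (hg.1 _)
  have h3 : W.valuation (g u) * W.valuation (g (u⁻¹ : Bˣ)) = 1 := by
    rw [← map_mul, ← map_mul, Units.mul_inv, map_one, map_one]
  by_contra hne
  have hlt : W.valuation (g u) < 1 := lt_of_le_of_ne h1 hne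
  have : W.valuation (g u) * W.valuation (g (u⁻¹ : Bˣ)) < 1 := by
    calc W.valuation (g u) * W.valuation (g (u⁻¹ : Bˣ)) ≤ W.valuation (g u) * 1 :=
          mul_le_mul_right h2 _
      _ = W.valuation (g u) := mul_one _
      _ < 1 := hlt
  rw [h3] at this
  exact lt_irrefl _ this

theorem val_eq_pow (hg : EtRam.Dominates B g W) {ϖ : B} (hϖ : Irreducible ϖ) {b : B}
    (hb : b ≠ 0) : ∃ k : ℕ, W.valuation (g b) = W.valuation (g ϖ) ^ k := by
  obtain ⟨k, u, rfl⟩ := IsDiscreteValuationRing.eq_unit_mul_pow_irreducible hb hϖ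
  exact ⟨k, by rw [map_mul, map_mul, val_of_isUnit hg u.isUnit, one_mul, map_pow, map_pow]⟩

theorem val_uniformizer_lt (hg : EtRam.Dominates B g W) {ϖ : B} (hϖ : Irreducible ϖ) :
    W.valuation (g ϖ) < 1 :=
  hg.2 ϖ ((IsLocalRing.mem_maximalIdeal _).mpr hϖ.not_isUnit)

theorem rel_of_root (hg : EtRam.Dominates B g W) (hginj : Function.Injective g) {ϖ : B}
    (hϖ : Irreducible ϖ) (y : F) (hy0 : y ≠ 0) (p : B[X]) (hp0 : p ≠ 0)
    (hp : p.eval₂ g y = 0) : ∃ m a b : ℕ, 0 < m ∧ m ≤ p.natDegree ∧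
      W.valuation (g ϖ) ^ a = W.valuation (g ϖ) ^ b * W.valuation y ^ m := by
  classical
  set v := W.valuation with hv
  have hypos : 0 < v y := by
    rw [pos_iff_ne_zero]; exact (Valuation.ne_zero_iff _).mpr hy0
  -- two terms with the same value
  have hsum : ∑ i ∈ p.support, g (p.coeff i) * y ^ i = 0 := by
    rw [← hp, Polynomial.eval₂_eq_sum, Polynomial.sum_def]
  have hterm0 : ∀ i ∈ p.support, g (p.coeff i) * y ^ i ≠ 0 := by
    intro i hi
    have : p.coeff i ≠ 0 := Polynomial.mem_support_iff.mp hi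
    exact mul_ne_zero (fun h => this (hginj (h.trans (map_zero g).symm))) (pow_ne_zero _ hy0)
  have hex : ∃ i ∈ p.support, ∃ j ∈ p.support, i < j ∧
      v (g (p.coeff i) * y ^ i) = v (g (p.coeff j) * y ^ j) := by
    by_contra hcon
    push_neg at hcon
    have hdist : ∀ i ∈ p.support, ∀ j ∈ p.support, i ≠ j →
        g (p.coeff i) * y ^ i ≠ 0 → g (p.coeff j) * y ^ j ≠ 0 →
        v (g (p.coeff i) * y ^ i) ≠ v (g (p.coeff j) * y ^ j) := by
      intro i hi j hj hij _ _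
      rcases lt_or_gt_of_ne hij with h | h
      · exact hcon i hi j hj h
      · exact (hcon j hj i hi h).symm
    obtain ⟨i, hi⟩ := Polynomial.nonempty_support_iff.mpr hp0
    have := Groth.Agent.Lib.Helper18.Eis.val_le_sum_of_distinct v p.support
      (fun i => g (p.coeff i) * y ^ i) hdist i hi
    rw [hsum, map_zero, le_zero_iff, Valuation.zero_iff] at this
    exact hterm0 i hi this
  obtain ⟨i, hi, j, hj, hij, he⟩ := hex
  obtain ⟨a, ha⟩ := val_eq_pow hg hϖ (Polynomial.mem_support_iff.mp hi)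
  obtain ⟨b, hb⟩ := val_eq_pow hg hϖ (Polynomial.mem_support_iff.mp hj)
  rw [← hv] at ha hb
  rw [map_mul, map_mul, map_pow, map_pow, ha, hb] at he
  have hjle : j ≤ p.natDegree := Polynomial.le_natDegree_of_mem_supp j hj
  obtain ⟨m, rfl⟩ : ∃ m, j = i + (m + 1) := ⟨j - i - 1, by omega⟩
  refine ⟨m + 1, a, b, Nat.succ_pos m, by omega, ?_⟩
  have h1 : v (g ϖ) ^ a * v y ^ i = v (g ϖ) ^ b * v y ^ (m + 1) * v y ^ i := by
    rw [he, pow_add, mul_assoc, mul_comm (v y ^ i)]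
  exact mul_right_cancel₀ (pow_ne_zero _ hypos.ne') h1

theorem sep_of_algebraic (hg : EtRam.Dominates B g W) (hginj : Function.Injective g) {ϖ : B}
    (hϖ : Irreducible ϖ) (y : F) (hy0 : y ≠ 0) (p : B[X]) (hp0 : p ≠ 0)
    (hp : p.eval₂ g y = 0) : ∃ n : ℕ, ¬ (W.valuation y ≤ W.valuation (g ϖ) ^ n) := by
  obtain ⟨m, a, b, hm, -, he'⟩ := rel_of_root hg hginj hϖ y hy0 p hp0 hp
  set v := W.valuation with hv
  have hϖlt : v (g ϖ) < 1 := val_uniformizer_lt hg hϖ
  have hϖ0 : g ϖ ≠ 0 := fun h => hϖ.ne_zero (hginj (h.trans (map_zero g).symm))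
  have hϖpos : 0 < v (g ϖ) := by
    rw [pos_iff_ne_zero]; exact (Valuation.ne_zero_iff _).mpr hϖ0
  have hypos : 0 < v y := by
    rw [pos_iff_ne_zero]; exact (Valuation.ne_zero_iff _).mpr hy0
  obtain ⟨m, rfl⟩ : ∃ m', m = m' + 1 := ⟨m - 1, by omega⟩
  refine ⟨a + 1, fun hle => ?_⟩
  have h2 : v y ^ (m + 1) ≤ v (g ϖ) ^ (a + 1) := by
    calc v y ^ (m + 1) ≤ (v (g ϖ) ^ (a + 1)) ^ (m + 1) := pow_le_pow_left₀ hypos.le hle _
      _ = v (g ϖ) ^ ((a + 1) * (m + 1)) := (pow_mul _ _ _).symm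
      _ ≤ v (g ϖ) ^ (a + 1) := pow_le_pow_of_le_one hϖpos.le hϖlt.le (by nlinarith)
  have h3 : v (g ϖ) ^ a ≤ v (g ϖ) ^ (b + (a + 1)) := by
    calc v (g ϖ) ^ a = v (g ϖ) ^ b * v y ^ (m + 1) := he'
      _ ≤ v (g ϖ) ^ b * v (g ϖ) ^ (a + 1) := mul_le_mul_right h2 _
      _ = v (g ϖ) ^ (b + (a + 1)) := (pow_add _ _ _).symm
  have h4 : v (g ϖ) ^ (b + (a + 1)) < v (g ϖ) ^ a :=
    pow_lt_pow_right_of_lt_one₀ hϖpos hϖlt (by omega)
  exact absurd h3 (not_le.mpr h4)

end Sep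

end Groth.Agent.Lib.Helper18.Unram
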