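import Mathlib
import Groth.Prelude.Def_EtRam
import Groth.Agent.Lib.Helper18.Unram.ValPart
import Groth.Agent.Lib.Helper18.Unram.ResRoot
import Groth.Agent.Lib.Helper18.Unram.Sep
import Groth.Agent.Lib.Helper18.Unram.AbhSep
import Groth.Agent.Lib.Helper18.Eis.TotRam

/-! # Monogenic extensions `A[y]` with reduced special fibre -/

set_option autoImplicit false
set_option linter.style.haveILetI false

namespace Groth.Agent.Lib.Helper18.Unram

open IsLocalRing Polynomial

universe u

variable {A K L : Type u} [CommRing A] [IsDomain A] [IsDiscreteValuationRing A] [Field K]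
  [Algebra A K] [IsFractionRing A K] [Field L] [Algebra K L] [Algebra A L] [IsScalarTower A K L]

/-- The data: `L = K(y)`, `y` a root of the monic `Q ∈ A[X]` whose reduction has reduced quotient. -/
structure MonoData (π : A) (y : L) (Q : A[X]) : Prop where
  hπ : Irreducible π
  monic : Q.Monic
  root : aeval y Q = 0
  gen : Algebra.adjoin K {y} = ⊤
  red : IsReduced (AdjoinRoot (Q.map (residue A)))

namespace MonoData

variable {π : A} {y : L} {Q : A[X]} (h : MonoData (K := K) π y Q)

/-- The ring `A[y]` inside `L`. -/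
abbrev ring (A : Type u) [CommRing A] [IsDomain A] [IsDiscreteValuationRing A] {L : Type u}
    [Field L] [Algebra A L] (y : L) : Subring L :=
  genRingRoot (algebraMap A L) (algebraMap A L) y

theorem pi_mem (π : A) (y : L) : algebraMap A L π ∈ ring A y :=
  mem_genRingRoot_left _ _ y π

include h

theorem isIntegral : IsIntegral A y := ⟨Q, h.monic, by rw [← aeval_def]; exact h.root⟩

theorem isAlgebraic_L : Algebra.IsAlgebraic K L := by
  have hy : IsIntegral K y := h.isIntegral.tower_top
  have hle : Algebra.adjoin K {y} ≤ integralClosure K L :=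
    Algebra.adjoin_le (by
      intro x hx
      rw [Set.mem_singleton_iff] at hx
      rw [hx]; exact hy)
  rw [h.gen] at hle
  exact ⟨fun x => (hle (Algebra.mem_top : x ∈ ⊤)).isAlgebraic⟩

theorem injective_g : Function.Injective (algebraMap A L) :=
  Groth.Agent.Lib.Helper18.Eis.algebraMap_injective' A K L

/-- The surjection from the special fibre onto `A[y] / π`. -/
theorem exists_surj :
    ∃ Ψ : AdjoinRoot (Q.map (residue A)) →+*
        ring A y ⧸ Ideal.span {(⟨algebraMap A L π, pi_mem π y⟩ : ring A y)},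
      Function.Surjective Ψ := by
  set D := ring A y with hD
  let g : A →+* L := algebraMap A L
  let J : Ideal D := Ideal.span {(⟨g π, pi_mem π y⟩ : D)}
  let c : A →+* D := g.codRestrict D (fun a => mem_genRingRoot_left g g y a)
  let q : D →+* D ⧸ J := Ideal.Quotient.mk J
  let yD : D := ⟨y, mem_genRingRoot_root g g y⟩
  have hqπ : q ⟨g π, pi_mem π y⟩ = 0 :=
    Ideal.Quotient.eq_zero_iff_mem.mpr (Ideal.subset_span (Set.mem_singleton _))
  let ψ₀ : ResidueField A →+* D ⧸ J := Ideal.Quotient.lift (maximalIdeal A) (q.comp c)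
    (fun a ha => by
      rw [h.hπ.maximalIdeal_eq] at ha
      obtain ⟨a', rfl⟩ := Ideal.mem_span_singleton'.mp ha
      show q (c (a' * π)) = 0
      have : c π = ⟨g π, pi_mem π y⟩ := rfl
      rw [map_mul, map_mul, this, hqπ, mul_zero])
  have hψ₀ : ∀ a, ψ₀ (residue A a) = q (c a) := fun a => rfl
  have hroot : eval₂ ψ₀ (q yD) (Q.map (residue A)) = 0 := by
    rw [eval₂_map]
    have h1 : ψ₀.comp (residue A) = q.comp c := RingHom.ext hψ₀
    rw [h1, ← hom_eval₂]
    have h2 : eval₂ c yD Q = 0 := by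
      apply Subtype.ext
      have := hom_eval₂ Q c D.subtype yD
      refine this.trans ?_
      have h3 : aeval y Q = 0 := h.root
      rw [aeval_def] at h3
      exact h3
    rw [h2, map_zero]
  let Ψ' : AdjoinRoot (Q.map (residue A)) →+* D ⧸ J := AdjoinRoot.lift ψ₀ (q yD) hroot
  have hΨ'of : ∀ t, Ψ' (AdjoinRoot.of _ t) = ψ₀ t := fun t => AdjoinRoot.lift_of hroot
  have hΨ'root : Ψ' (AdjoinRoot.root _) = q yD := AdjoinRoot.lift_root hroot
  refine ⟨Ψ', ?_⟩
  intro w
  obtain ⟨⟨x, hx⟩, rfl⟩ := Ideal.Quotient.mk_surjective w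
  show q ⟨x, hx⟩ ∈ Ψ'.range
  induction hx using Subring.closure_induction with
  | mem x hx =>
    rcases hx with (⟨a, rfl⟩ | ⟨a, rfl⟩) | hxy
    · exact ⟨AdjoinRoot.of _ (residue A a), by rw [hΨ'of, hψ₀]; rfl⟩
    · exact ⟨AdjoinRoot.of _ (residue A a), by rw [hΨ'of, hψ₀]; rfl⟩
    · have : ∀ h', (⟨x, h'⟩ : D) = yD := fun h' => Subtype.ext hxy
      rw [this]
      exact ⟨AdjoinRoot.root _, hΨ'root⟩
  | zero => exact Ψ'.range.zero_mem
  | one => exact Ψ'.range.one_mem
  | add x y hx hy ihx ihy =>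
    have : (⟨x + y, D.add_mem hx hy⟩ : D) = ⟨x, hx⟩ + ⟨y, hy⟩ := rfl
    rw [this, map_add]; exact Ψ'.range.add_mem ihx ihy
  | neg x hx ihx =>
    have : (⟨-x, D.neg_mem hx⟩ : D) = -⟨x, hx⟩ := rfl
    rw [this, map_neg]; exact Ψ'.range.neg_mem ihx
  | mul x y hx hy ihx ihy =>
    have : (⟨x * y, D.mul_mem hx hy⟩ : D) = ⟨x, hx⟩ * ⟨y, hy⟩ := rfl
    rw [this, map_mul]; exact Ψ'.range.mul_mem ihx ihy

theorem y_mem (V : ValuationSubring L) (hV : EtRam.Dominates A (algebraMap A L) V) : y ∈ V :=
  Groth.Agent.Lib.Helper18.Eis.mem_of_isIntegral V hV.1 h.isIntegral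

theorem ring_le (V : ValuationSubring L) (hV : EtRam.Dominates A (algebraMap A L) V) :
    ∀ d ∈ ring A y, d ∈ V :=
  genRingRoot_le hV hV y (h.y_mem V hV)

theorem exists_fraction (x : L) :
    ∃ d₁ ∈ ring A y, ∃ d₂ ∈ ring A y, d₂ ≠ 0 ∧ x = d₁ / d₂ := by
  set D := ring A y with hD
  have hx : x ∈ Algebra.adjoin K {y} := by rw [h.gen]; trivial
  induction hx using Algebra.adjoin_induction with
  | mem x hx =>
    rw [Set.mem_singleton_iff] at hx
    subst hx
    exact ⟨_, mem_genRingRoot_root _ _ _, 1, D.one_mem, one_ne_zero, (div_one _).symm⟩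
  | algebraMap c =>
    obtain ⟨a₁, a₂, ha₂, rfl⟩ := IsFractionRing.div_surjective (A := A) c
    have ha₂0 : algebraMap A L a₂ ≠ 0 := fun h0 =>
      (nonZeroDivisors.ne_zero ha₂) (h.injective_g (h0.trans (map_zero _).symm))
    refine ⟨algebraMap A L a₁, mem_genRingRoot_left _ _ y a₁, algebraMap A L a₂,
      mem_genRingRoot_left _ _ y a₂, ha₂0, ?_⟩
    rw [map_div₀, ← IsScalarTower.algebraMap_apply, ← IsScalarTower.algebraMap_apply]
  | add x y _ _ hx hy =>
    obtain ⟨d₁, hd₁, d₂, hd₂, hd₂0, rfl⟩ := hx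
    obtain ⟨e₁, he₁, e₂, he₂, he₂0, rfl⟩ := hy
    exact ⟨d₁ * e₂ + d₂ * e₁, D.add_mem (D.mul_mem hd₁ he₂) (D.mul_mem hd₂ he₁), d₂ * e₂,
      D.mul_mem hd₂ he₂, mul_ne_zero hd₂0 he₂0, div_add_div _ _ hd₂0 he₂0⟩
  | mul x y _ _ hx hy =>
    obtain ⟨d₁, hd₁, d₂, hd₂, hd₂0, rfl⟩ := hx
    obtain ⟨e₁, he₁, e₂, he₂, he₂0, rfl⟩ := hy
    exact ⟨d₁ * e₁, D.mul_mem hd₁ he₁, d₂ * e₂, D.mul_mem hd₂ he₂, mul_ne_zero hd₂0 he₂0,
      div_mul_div_comm _ _ _ _⟩

theorem udata (V : ValuationSubring L) (hV : EtRam.Dominates A (algebraMap A L) V) :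
    UData V (ring A y) (algebraMap A L π) := by
  haveI := h.isAlgebraic_L
  obtain ⟨Ψ, hΨ⟩ := h.exists_surj
  have hπlt : V.valuation (algebraMap A L π) < 1 :=
    hV.2 π ((IsLocalRing.mem_maximalIdeal _).mpr h.hπ.not_isUnit)
  haveI := h.red
  haveI : Module.Finite (ResidueField A) (AdjoinRoot (Q.map (residue A))) :=
    (h.monic.map (residue A)).finite_adjoinRoot
  haveI : Algebra.IsIntegral (ResidueField A) (AdjoinRoot (Q.map (residue A))) :=
    Algebra.IsIntegral.of_finite _ _
  have hP : ∀ 𝔫 : Ideal (AdjoinRoot (Q.map (residue A))), 𝔫.IsPrime → ∀ x ∈ 𝔫,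
      ∃ s ∉ 𝔫, s * x = 0 := by
    intro 𝔫 h𝔫 x hx
    haveI := h𝔫
    exact exists_notMem_mul_eq_zero_of_isIntegral (k := ResidueField A) 𝔫 hx
  refine
    { hDW := h.ring_le V hV
      hϖD := pi_mem π y
      hϖ := hπlt
      hϖ0 := fun h0 => h.hπ.ne_zero (h.injective_g (h0.trans (map_zero _).symm))
      sep := ?_
      f3 := f3_of_surjective (ring A y) (h.ring_le V hV) (algebraMap A L π) (pi_mem π y) hπlt hP
        _ rfl Ψ hΨ
      gen := h.exists_fraction }
  intro x _ hx0
  have h1 : IsAlgebraic K x := Algebra.IsAlgebraic.isAlgebraic x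
  have h2 : IsAlgebraic A x := (IsFractionRing.isAlgebraic_iff A K L).mpr h1
  obtain ⟨P, hP0, hP⟩ := h2
  exact sep_of_algebraic hV h.injective_g h.hπ x hx0 P hP0 (by rw [← hP, aeval_def])

/-- The extension is weakly unramified. -/
theorem exists_eq_mul (V : ValuationSubring L) (hV : EtRam.Dominates A (algebraMap A L) V)
    (x : L) (hx : V.valuation x < 1) : ∃ w ∈ V, x = algebraMap A L π * w :=
  (h.udata V hV).exists_eq_mul x hx

/-- The residue field is generated by the residue of `y`. -/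
theorem residue_mem (V : ValuationSubring L) (hV : EtRam.Dominates A (algebraMap A L) V)
    (S : Subfield (ResidueField V)) (hS₁ : ∀ a : A, residue V ⟨algebraMap A L a, hV.1 a⟩ ∈ S)
    (hS₂ : residue V ⟨y, h.y_mem V hV⟩ ∈ S) (x : ResidueField V) : x ∈ S := by
  refine (h.udata V hV).residue_mem_subfield S ?_ x
  exact residue_genRingRoot_mem _ _ y (h.ring_le V hV) S.toSubring hS₁ hS₁ hS₂

/-- If the special fibre is a field, every element of `A[y]` is divisible by `π` or invertible
modulo `π`. -/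
theorem dvd_or_inv (hF : IsField (AdjoinRoot (Q.map (residue A)))) (d : L) (hd : d ∈ ring A y) :
    (∃ d' ∈ ring A y, d = algebraMap A L π * d') ∨
      ∃ d'' ∈ ring A y, ∃ d''' ∈ ring A y, d * d'' = 1 + algebraMap A L π * d''' := by
  obtain ⟨Ψ, hΨ⟩ := h.exists_surj
  set D := ring A y with hD
  let J : Ideal D := Ideal.span {(⟨algebraMap A L π, pi_mem π y⟩ : D)}
  let q : D →+* D ⧸ J := Ideal.Quotient.mk J
  obtain ⟨t, ht⟩ := hΨ (q ⟨d, hd⟩)
  by_cases ht0 : t = 0
  · left
    rw [ht0, map_zero] at ht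
    have hmem : (⟨d, hd⟩ : D) ∈ J := Ideal.Quotient.eq_zero_iff_mem.mp ht.symm
    obtain ⟨b, hb⟩ := Ideal.mem_span_singleton'.mp hmem
    refine ⟨b, b.2, ?_⟩
    have := congrArg Subtype.val hb
    rw [mul_comm]
    exact this.symm
  · right
    obtain ⟨t', ht'⟩ := hF.mul_inv_cancel ht0
    obtain ⟨⟨d'', hd''⟩, hq''⟩ := Ideal.Quotient.mk_surjective (Ψ t')
    have h1 : q (⟨d, hd⟩ * ⟨d'', hd''⟩ - 1) = 0 := by
      rw [map_sub, map_mul, map_one]
      show q ⟨d, hd⟩ * Ideal.Quotient.mk J ⟨d'', hd''⟩ - 1 = 0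
      rw [hq'', ← ht, ← map_mul, ht', map_one, sub_self]
    have hmem : (⟨d, hd⟩ * ⟨d'', hd''⟩ - 1 : D) ∈ J := Ideal.Quotient.eq_zero_iff_mem.mp h1
    obtain ⟨b, hb⟩ := Ideal.mem_span_singleton'.mp hmem
    refine ⟨d'', hd'', b, b.2, ?_⟩
    have := congrArg Subtype.val hb
    have h2 : (b : L) * algebraMap A L π = d * d'' - 1 := this
    rw [mul_comm (algebraMap A L π), h2]
    ring

/-- If the special fibre is a field, there is at most one valuation ring dominating `A`. -/
theorem unique_of_isField (hF : IsField (AdjoinRoot (Q.map (residue A))))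
    (V V' : ValuationSubring L) (hV : EtRam.Dominates A (algebraMap A L) V)
    (hV' : EtRam.Dominates A (algebraMap A L) V') : V = V' := by
  have key : ∀ (W W' : ValuationSubring L), EtRam.Dominates A (algebraMap A L) W →
      EtRam.Dominates A (algebraMap A L) W' → ∀ d ∈ ring A y, W.valuation d = 1 →
      W'.valuation d = 1 := by
    intro W W' hW hW' d hd hd1
    have hπW : W.valuation (algebraMap A L π) < 1 :=
      hW.2 π ((IsLocalRing.mem_maximalIdeal _).mpr h.hπ.not_isUnit)
    have hπW' : W'.valuation (algebraMap A L π) < 1 :=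
      hW'.2 π ((IsLocalRing.mem_maximalIdeal _).mpr h.hπ.not_isUnit)
    rcases h.dvd_or_inv hF d hd with ⟨d', hd', e⟩ | ⟨d'', hd'', d''', hd''', e⟩
    · exfalso
      have : W.valuation d < 1 := by
        rw [e, map_mul]
        exact mul_lt_one_of_nonneg_of_lt_one_left zero_le' hπW
          ((W.valuation_le_one_iff _).mpr (h.ring_le W hW d' hd'))
      rw [hd1] at this
      exact lt_irrefl _ this
    · have h1 : W'.valuation (d * d'') = 1 := by
        rw [e]
        apply Valuation.map_one_add_of_lt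
        rw [map_mul]
        exact mul_lt_one_of_nonneg_of_lt_one_left zero_le' hπW'
          ((W'.valuation_le_one_iff _).mpr (h.ring_le W' hW' d''' hd'''))
      have h2 : W'.valuation d ≤ 1 := (W'.valuation_le_one_iff _).mpr (h.ring_le W' hW' d hd)
      have h3 : W'.valuation d'' ≤ 1 := (W'.valuation_le_one_iff _).mpr (h.ring_le W' hW' d'' hd'')
      rw [map_mul] at h1
      by_contra hne
      have hlt : W'.valuation d < 1 := lt_of_le_of_ne h2 hne
      have : W'.valuation d * W'.valuation d'' < 1 :=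
        mul_lt_one_of_nonneg_of_lt_one_left zero_le' hlt h3
      rw [h1] at this
      exact lt_irrefl _ this
  have hle : ∀ (W W' : ValuationSubring L), EtRam.Dominates A (algebraMap A L) W →
      EtRam.Dominates A (algebraMap A L) W' → W ≤ W' := by
    intro W W' hW hW' x hx
    rcases eq_or_ne x 0 with rfl | hx0
    · exact W'.zero_mem
    have hU := h.udata W hW
    have hU' := h.udata W' hW'
    obtain ⟨n, m, s, hs, t, ht, hsv, htv, e⟩ := hU.decomp_field x hx0
    have hsv' := key W W' hW hW' s hs hsv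
    have htv' := key W W' hW hW' t ht htv
    have hpos := hU.vϖ_pos
    have hpos' := hU'.vϖ_pos
    have hv : W.valuation x * W.valuation (algebraMap A L π) ^ m =
        W.valuation (algebraMap A L π) ^ n := by
      have := congrArg W.valuation e
      rwa [map_mul, map_mul, map_mul, map_pow, map_pow, hsv, htv, mul_one, mul_one] at this
    have hv' : W'.valuation x * W'.valuation (algebraMap A L π) ^ m =
        W'.valuation (algebraMap A L π) ^ n := by
      have := congrArg W'.valuation e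
      rwa [map_mul, map_mul, map_mul, map_pow, map_pow, hsv', htv', mul_one, mul_one] at this
    have hxle : W.valuation x ≤ 1 := (W.valuation_le_one_iff _).mpr hx
    have hmn : m ≤ n := by
      by_contra hlt
      rw [not_le] at hlt
      have h1 : W.valuation (algebraMap A L π) ^ n ≤ W.valuation (algebraMap A L π) ^ m := by
        rw [← hv]
        calc W.valuation x * W.valuation (algebraMap A L π) ^ m
            ≤ 1 * W.valuation (algebraMap A L π) ^ m := mul_le_mul_left hxle _
          _ = _ := one_mul _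
      exact absurd h1 (not_le.mpr (pow_lt_pow_right_of_lt_one₀ hpos hU.hϖ hlt))
    rw [← W'.valuation_le_one_iff]
    have hm0 : W'.valuation (algebraMap A L π) ^ m ≠ 0 := pow_ne_zero _ hpos'.ne'
    have h2 : W'.valuation x = W'.valuation (algebraMap A L π) ^ n /
        W'.valuation (algebraMap A L π) ^ m := by
      rw [← hv', mul_div_assoc, div_self hm0, mul_one]
    rw [h2, div_le_one₀ (pow_pos hpos' m)]
    exact pow_le_pow_of_le_one hpos'.le hU'.hϖ.le hmn
  exact le_antisymm (hle V V' hV hV') (hle V' V hV' hV)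

end MonoData

end Groth.Agent.Lib.Helper18.Unram
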