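import Mathlib
import Groth.Prelude.Def_EtRam
import Groth.Agent.Lib.Helper18.Unram.Sep

/-! # A valuation ring of a finite extension dominating a discrete valuation ring has principal
maximal ideal -/

set_option autoImplicit false
set_option linter.style.haveILetI false

namespace Groth.Agent.Lib.Helper18.Unram

open IsLocalRing Polynomial

universe u

theorem val_comap_le_iff {K₁ F : Type*} [Field K₁] [Field F] (W : ValuationSubring F)
    (f : K₁ →+* F) (x y : K₁) :
    (W.comap f).valuation x ≤ (W.comap f).valuation y ↔ W.valuation (f x) ≤ W.valuation (f y) := by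
  rcases eq_or_ne y 0 with rfl | hy0
  · simp
  · have hfy0 : f y ≠ 0 := (map_ne_zero f).mpr hy0
    have h1 : (W.comap f).valuation x ≤ (W.comap f).valuation y ↔ x / y ∈ W.comap f := by
      rw [← ValuationSubring.valuation_le_one_iff, map_div₀,
        div_le_one₀ (by rw [pos_iff_ne_zero]; exact (Valuation.ne_zero_iff _).mpr hy0)]
    have h2 : W.valuation (f x) ≤ W.valuation (f y) ↔ f x / f y ∈ W := by
      rw [← ValuationSubring.valuation_le_one_iff, map_div₀,
        div_le_one₀ (by rw [pos_iff_ne_zero]; exact (Valuation.ne_zero_iff _).mpr hfy0)]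
    rw [h1, h2, ValuationSubring.mem_comap, map_div₀]

theorem val_comap_eq_iff {K₁ F : Type*} [Field K₁] [Field F] (W : ValuationSubring F)
    (f : K₁ →+* F) (x y : K₁) :
    (W.comap f).valuation x = (W.comap f).valuation y ↔ W.valuation (f x) = W.valuation (f y) := by
  rw [le_antisymm_iff, le_antisymm_iff, val_comap_le_iff, val_comap_le_iff]

section

variable {A K K₁ : Type u} [CommRing A] [IsDomain A] [IsDiscreteValuationRing A] [Field K]
  [Algebra A K] [IsFractionRing A K] [Field K₁] [Algebra K K₁] [FiniteDimensional K K₁]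

theorem exists_generator (V : ValuationSubring K₁)
    (hV : EtRam.Dominates A ((algebraMap K K₁).comp (algebraMap A K)) V) {π : A}
    (hπ : Irreducible π) :
    ∃ ϖ : V, maximalIdeal V = Ideal.span {ϖ} ∧ (ϖ : K₁) ≠ 0 ∧ ∃ N c : ℕ, 0 < N ∧ 0 < c ∧
      V.valuation (ϖ : K₁) ^ N =
        V.valuation (((algebraMap K K₁).comp (algebraMap A K)) π) ^ c := by
  classical
  set gA : A →+* K₁ := (algebraMap K K₁).comp (algebraMap A K) with hgA
  have hgAinj : Function.Injective gA :=
    (algebraMap K K₁).injective.comp (IsFractionRing.injective A K)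
  set v := V.valuation with hv
  have hπlt : v (gA π) < 1 := val_uniformizer_lt hV hπ
  have hπ0 : gA π ≠ 0 := fun h => hπ.ne_zero (hgAinj (h.trans (map_zero gA).symm))
  have hπpos : 0 < v (gA π) := by
    rw [pos_iff_ne_zero]; exact (Valuation.ne_zero_iff _).mpr hπ0
  set n := Module.finrank K K₁ with hn
  set N := n.factorial with hN
  have hNpos : 0 < N := Nat.factorial_pos n
  -- the basic relation
  have hrel : ∀ y : K₁, y ≠ 0 → v y < 1 → ∃ c : ℕ, 0 < c ∧ v y ^ N = v (gA π) ^ c := by
    intro y hy0 hylt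
    have hypos : 0 < v y := by
      rw [pos_iff_ne_zero]; exact (Valuation.ne_zero_iff _).mpr hy0
    set q := minpoly K y with hq
    have hq0 : q ≠ 0 := minpoly.ne_zero (Algebra.IsIntegral.isIntegral y)
    set p := IsLocalization.integerNormalization (nonZeroDivisors A) q with hp
    have hp0 : p ≠ 0 := fun h => hq0 (IsFractionRing.integerNormalization_eq_zero_iff.mp h)
    have hroot : p.eval₂ gA y = 0 := by
      apply IsLocalization.integerNormalization_eval₂_eq_zero
      rw [← Polynomial.aeval_def, hq, minpoly.aeval]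
    have hdeg : p.natDegree ≤ n := by
      have h1 : p.natDegree ≤ q.natDegree := by
        apply Polynomial.natDegree_le_iff_coeff_eq_zero.mpr
        intro i hi
        by_contra hne
        have : i ∈ q.support :=
          IsLocalization.integerNormalization_support _ q (Polynomial.mem_support_iff.mpr hne)
        exact absurd (Polynomial.le_natDegree_of_mem_supp i this) (not_le.mpr hi)
      exact h1.trans (minpoly.natDegree_le y)
    obtain ⟨m, a, b, hm, hmle, he⟩ := rel_of_root hV hgAinj hπ y hy0 p hp0 hroot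
    rw [← hv] at he
    have hmn : m ≤ n := hmle.trans hdeg
    have hdvd : m ∣ N := Nat.dvd_factorial hm hmn
    obtain ⟨t, ht⟩ := hdvd
    have htpos : 0 < t := by
      rcases Nat.eq_zero_or_pos t with h0 | h0
      · rw [h0, mul_zero] at ht; omega
      · exact h0
    have he2 : v (gA π) ^ (a * t) = v (gA π) ^ (b * t) * v y ^ N := by
      rw [pow_mul, he, mul_pow, ← pow_mul, ← pow_mul, ← ht]
    have hyN : v y ^ N < 1 := pow_lt_one₀ hypos.le hylt hNpos.ne'
    have hlt : v (gA π) ^ (a * t) < v (gA π) ^ (b * t) := by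
      rw [he2]
      calc v (gA π) ^ (b * t) * v y ^ N < v (gA π) ^ (b * t) * 1 :=
            mul_lt_mul_of_pos_left hyN (pow_pos hπpos _)
        _ = v (gA π) ^ (b * t) := mul_one _
    have hab : b * t < a * t := by
      by_contra hle
      rw [not_lt] at hle
      exact absurd (pow_le_pow_of_le_one hπpos.le hπlt.le hle) (not_le.mpr hlt)
    refine ⟨a * t - b * t, by omega, ?_⟩
    have h3 : v (gA π) ^ (b * t) * v y ^ N = v (gA π) ^ (b * t) * v (gA π) ^ (a * t - b * t) := by
      rw [← he2, ← pow_add]; congr 1; omega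
    exact mul_left_cancel₀ (pow_ne_zero _ hπpos.ne') h3
  -- minimal exponent
  have hex : ∃ c : ℕ, 0 < c ∧ ∃ y : K₁, y ≠ 0 ∧ v y < 1 ∧ v y ^ N = v (gA π) ^ c :=
    ⟨N, hNpos, gA π, hπ0, hπlt, rfl⟩
  obtain ⟨hc₀pos, y₀, hy₀0, hy₀lt, hy₀⟩ := Nat.find_spec hex
  set c₀ := Nat.find hex with hc₀
  have hy₀V : y₀ ∈ V := (V.valuation_le_one_iff _).mp hy₀lt.le
  have hy₀pos : 0 < v y₀ := by
    rw [pos_iff_ne_zero]; exact (Valuation.ne_zero_iff _).mpr hy₀0
  refine ⟨⟨y₀, hy₀V⟩, ?_, hy₀0, N, c₀, hNpos, hc₀pos, hy₀⟩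
  apply le_antisymm
  · intro y hy
    rw [V.valuation_lt_one_iff] at hy
    rw [Ideal.mem_span_singleton']
    rcases eq_or_ne (y : K₁) 0 with h0 | h0
    · exact ⟨0, by rw [zero_mul]; exact (Subtype.ext h0).symm⟩
    · obtain ⟨c, hcpos, hc⟩ := hrel y h0 hy
      have hle : c₀ ≤ c := Nat.find_min' hex ⟨hcpos, y, h0, hy, hc⟩
      have h1 : v (y : K₁) ^ N ≤ v y₀ ^ N := by
        rw [hc, hy₀]; exact pow_le_pow_of_le_one hπpos.le hπlt.le hle
      have h2 : v (y : K₁) ≤ v y₀ := by
        by_contra hlt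
        rw [not_le] at hlt
        exact absurd h1 (not_le.mpr (pow_lt_pow_left₀ hlt hy₀pos.le hNpos.ne'))
      have h3 : (y : K₁) / y₀ ∈ V := by
        rw [← V.valuation_le_one_iff, map_div₀]
        exact (div_le_one₀ hy₀pos).mpr h2
      exact ⟨⟨(y : K₁) / y₀, h3⟩, Subtype.ext (div_mul_cancel₀ _ hy₀0)⟩
  · rw [Ideal.span_singleton_le_iff_mem, V.valuation_lt_one_iff]
    exact hy₀lt

end

section Factor

variable {A K K₁ : Type u} [CommRing A] [IsDomain A] [IsDiscreteValuationRing A] [Field K]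
  [Algebra A K] [IsFractionRing A K] [Field K₁] [Algebra K K₁] [FiniteDimensional K K₁]

/-- Every nonzero element of a valuation ring of a finite extension dominating a discrete valuation
ring is a unit times a power of a generator of the maximal ideal. -/
theorem exists_generator' (V : ValuationSubring K₁)
    (hV : EtRam.Dominates A ((algebraMap K K₁).comp (algebraMap A K)) V) :
    ∃ ϖ : V, maximalIdeal V = Ideal.span {ϖ} ∧ (ϖ : K₁) ≠ 0 ∧
      ∀ x : V, x ≠ 0 → ∃ (n : ℕ) (u : Vˣ), x = u * ϖ ^ n := by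
  obtain ⟨π, hπ⟩ := IsDiscreteValuationRing.exists_irreducible A
  obtain ⟨ϖ, hmV, hϖ0, N, c, hN, hc, hval⟩ := exists_generator V hV hπ
  refine ⟨ϖ, hmV, hϖ0, ?_⟩
  set gA : A →+* K₁ := (algebraMap K K₁).comp (algebraMap A K) with hgA
  have hgAinj : Function.Injective gA :=
    (algebraMap K K₁).injective.comp (IsFractionRing.injective A K)
  have hπlt : V.valuation (gA π) < 1 := val_uniformizer_lt hV hπ
  have hπ0 : gA π ≠ 0 := fun h => hπ.ne_zero (hgAinj (h.trans (map_zero gA).symm))
  have hπpos : 0 < V.valuation (gA π) := by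
    rw [pos_iff_ne_zero]; exact (Valuation.ne_zero_iff _).mpr hπ0
  have hϖpos : 0 < V.valuation (ϖ : K₁) := by
    rw [pos_iff_ne_zero]; exact (Valuation.ne_zero_iff _).mpr hϖ0
  -- separatedness with respect to `ϖ`
  have hsep : ∀ y : K₁, y ≠ 0 → ∃ M : ℕ, ¬ (V.valuation y ≤ V.valuation (ϖ : K₁) ^ M) := by
    intro y hy0
    set q := minpoly K y with hq
    have hq0 : q ≠ 0 := minpoly.ne_zero (Algebra.IsIntegral.isIntegral y)
    set p := IsLocalization.integerNormalization (nonZeroDivisors A) q with hp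
    have hp0 : p ≠ 0 := fun h => hq0 (IsFractionRing.integerNormalization_eq_zero_iff.mp h)
    have hroot : p.eval₂ gA y = 0 := by
      apply IsLocalization.integerNormalization_eval₂_eq_zero
      rw [← Polynomial.aeval_def, hq, minpoly.aeval]
    obtain ⟨n, hn⟩ := sep_of_algebraic hV hgAinj hπ y hy0 p hp0 hroot
    refine ⟨N * n, fun hle => hn (hle.trans ?_)⟩
    rw [pow_mul, hval, ← pow_mul]
    exact pow_le_pow_of_le_one hπpos.le hπlt.le (Nat.le_mul_of_pos_left n hc)
  have key : ∀ M : ℕ, ∀ x : V, x ≠ 0 → ¬ (V.valuation (x : K₁) ≤ V.valuation (ϖ : K₁) ^ M) →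
      ∃ (n : ℕ) (u : Vˣ), x = u * ϖ ^ n := by
    intro M
    induction M with
    | zero =>
      intro x _ hM
      exact absurd (by rw [pow_zero]; exact (V.valuation_le_one_iff _).mpr x.2) hM
    | succ M ih =>
      intro x hx0 hM
      by_cases hu : IsUnit x
      · exact ⟨0, hu.unit, by rw [pow_zero, mul_one]; rfl⟩
      · have hxm : x ∈ maximalIdeal V := (IsLocalRing.mem_maximalIdeal _).mpr hu
        rw [hmV] at hxm
        obtain ⟨x₁, rfl⟩ := Ideal.mem_span_singleton'.mp hxm
        have hx₁0 : x₁ ≠ 0 := fun h => hx0 (by rw [h, zero_mul])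
        have hM' : ¬ (V.valuation (x₁ : K₁) ≤ V.valuation (ϖ : K₁) ^ M) := by
          intro hc'
          apply hM
          have : ((x₁ * ϖ : V) : K₁) = (x₁ : K₁) * (ϖ : K₁) := rfl
          rw [this, map_mul, pow_succ]
          exact mul_le_mul_left hc' _
        obtain ⟨n, u, hn⟩ := ih x₁ hx₁0 hM'
        exact ⟨n + 1, u, by rw [hn, pow_succ, mul_assoc]⟩
  intro x hx0
  have hx0' : (x : K₁) ≠ 0 := fun h => hx0 (Subtype.ext h)
  obtain ⟨M, hM⟩ := hsep (x : K₁) hx0'
  exact key M x hx0 hM

end Factor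

section ResAlg

theorem exists_unit_coeff_root {A : Type*} [CommRing A] [IsDomain A] [IsDiscreteValuationRing A]
    {S : Type*} [CommRing S] [IsDomain S] (g : A →+* S) (hg : Function.Injective g) (x : S)
    (p : A[X]) (hp0 : p ≠ 0) (hp : p.eval₂ g x = 0) :
    ∃ q : A[X], q.eval₂ g x = 0 ∧ ∃ i, IsUnit (q.coeff i) := by
  obtain ⟨π, hπ⟩ := IsDiscreteValuationRing.exists_irreducible A
  obtain ⟨i, hi⟩ : ∃ i, p.coeff i ≠ 0 := by
    by_contra hcon
    push_neg at hcon
    exact hp0 (Polynomial.ext (fun i => by rw [hcon i, Polynomial.coeff_zero]))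
  obtain ⟨k, u, hk⟩ := IsDiscreteValuationRing.eq_unit_mul_pow_irreducible hi hπ
  induction k generalizing p u with
  | zero =>
    exact ⟨p, hp, i, by rw [hk, pow_zero, mul_one]; exact u.isUnit⟩
  | succ k ih =>
    by_cases hex : ∃ j, IsUnit (p.coeff j)
    · exact ⟨p, hp, hex⟩
    · push_neg at hex
      have hdvd : Polynomial.C π ∣ p := by
        rw [Polynomial.C_dvd_iff_dvd_coeff]
        intro j
        have : p.coeff j ∈ maximalIdeal A := (IsLocalRing.mem_maximalIdeal _).mpr (hex j)
        rw [hπ.maximalIdeal_eq, Ideal.mem_span_singleton] at this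
        exact this
      obtain ⟨p₁, rfl⟩ := hdvd
      have hπ0 : g π ≠ 0 := fun h => hπ.ne_zero (hg (h.trans (map_zero g).symm))
      have hp₁ : p₁.eval₂ g x = 0 := by
        rw [Polynomial.eval₂_mul, Polynomial.eval₂_C] at hp
        exact (mul_eq_zero.mp hp).resolve_left hπ0
      have hp₁0 : p₁ ≠ 0 := fun h => hp0 (by rw [h, mul_zero])
      have hcoeff : p₁.coeff i = u * π ^ k := by
        rw [Polynomial.coeff_C_mul, pow_succ] at hk
        have : π * p₁.coeff i = π * (u * π ^ k) := by rw [hk]; ring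
        exact mul_left_cancel₀ hπ.ne_zero this
      have hi₁ : p₁.coeff i ≠ 0 := by
        rw [hcoeff]; exact mul_ne_zero u.ne_zero (pow_ne_zero _ hπ.ne_zero)
      exact ih p₁ hp₁0 hp₁ hi₁ u hcoeff

theorem isAlgebraic_residueField {A V : Type*} [CommRing A] [IsDomain A]
    [IsDiscreteValuationRing A] [CommRing V] [IsDomain V] [IsLocalRing V] [Algebra A V]
    [IsLocalHom (algebraMap A V)] (hinj : Function.Injective (algebraMap A V))
    (halg : ∀ x : V, ∃ p : A[X], p ≠ 0 ∧ p.eval₂ (algebraMap A V) x = 0) :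
    Algebra.IsAlgebraic (ResidueField A) (ResidueField V) := by
  constructor
  intro xbar
  obtain ⟨x, rfl⟩ := IsLocalRing.residue_surjective xbar
  obtain ⟨p, hp0, hp⟩ := halg x
  obtain ⟨q, hq, i, hi⟩ := exists_unit_coeff_root (algebraMap A V) hinj x p hp0 hp
  refine ⟨q.map (residue A), ?_, ?_⟩
  · intro h0
    have := congrArg (fun r => r.coeff i) h0
    simp only [Polynomial.coeff_map, Polynomial.coeff_zero] at this
    rw [IsLocalRing.residue_eq_zero_iff] at this
    exact (IsLocalRing.mem_maximalIdeal _).mp this hi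
  · rw [Polynomial.aeval_def, Polynomial.eval₂_map]
    have hcomp : (algebraMap (ResidueField A) (ResidueField V)).comp (residue A) =
        (residue V).comp (algebraMap A V) := by
      ext a
      exact IsLocalRing.ResidueField.algebraMap_residue a
    rw [hcomp, ← Polynomial.hom_eval₂, hq, map_zero]

end ResAlg

end Groth.Agent.Lib.Helper18.Unram
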