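import Mathlib
import Groth.Agent.Lib.Helper18.Unram.ResPart

/-! # Tensor products of fields which are reduced and zero-dimensional -/

set_option autoImplicit false
set_option linter.style.haveILetI false

namespace Groth.Agent.Lib.Helper18.Unram

open TensorProduct

universe u

section

variable {k K E : Type*} [Field k] [Field K] [Field E] [Algebra k K] [Algebra k E]
  [Algebra.IsAlgebraic k K]

/-- If `K/k` is algebraic, every prime of `K ⊗[k] E` is maximal. -/
theorem isMaximal_of_isPrime_of_left_algebraic (𝔭 : Ideal (K ⊗[k] E)) [h𝔭 : 𝔭.IsPrime] :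
    𝔭.IsMaximal := by
  let e : K ⊗[k] E ≃ₐ[k] E ⊗[k] K := Algebra.TensorProduct.comm k K E
  haveI : Algebra.IsIntegral k K := Algebra.IsAlgebraic.isIntegral
  haveI : Algebra.IsIntegral E (E ⊗[k] K) := inferInstance
  let 𝔭' : Ideal (E ⊗[k] K) := 𝔭.comap (e.symm : E ⊗[k] K →+* K ⊗[k] E)
  haveI h𝔭' : 𝔭'.IsPrime := Ideal.comap_isPrime _ _
  have hcm : (𝔭'.comap (algebraMap E (E ⊗[k] K))).IsMaximal := by
    have : 𝔭'.comap (algebraMap E (E ⊗[k] K)) = ⊥ := by
      rcases Ideal.eq_bot_or_top (𝔭'.comap (algebraMap E (E ⊗[k] K))) with h | h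
      · exact h
      · exact absurd h (Ideal.comap_ne_top _ h𝔭'.ne_top)
    rw [this]; exact Ideal.bot_isMaximal
  have hmax' : 𝔭'.IsMaximal :=
    Ideal.isMaximal_of_isIntegral_of_isMaximal_comap (R := E) 𝔭' hcm
  have heq : 𝔭 = 𝔭'.comap (e : K ⊗[k] E →+* E ⊗[k] K) := by
    ext x
    simp only [𝔭', Ideal.mem_comap]
    have : (e.symm : E ⊗[k] K →+* K ⊗[k] E) ((e : K ⊗[k] E →+* E ⊗[k] K) x) = x :=
      e.symm_apply_apply x
    rw [this]
  rw [heq]
  exact Ideal.comap_isMaximal_of_surjective _ e.surjective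

theorem hP_of_left_algebraic [IsReduced (K ⊗[k] E)] :
    ∀ 𝔫 : Ideal (K ⊗[k] E), 𝔫.IsPrime → ∀ x ∈ 𝔫, ∃ s ∉ 𝔫, s * x = 0 := by
  intro 𝔫 h𝔫 x hx
  haveI := h𝔫
  refine exists_notMem_mul_eq_zero 𝔫 (fun 𝔭 h𝔭 hle => ?_) hx
  haveI := h𝔭
  exact (isMaximal_of_isPrime_of_left_algebraic 𝔭).eq_of_le h𝔫.ne_top hle

end

/-- A quotient of a ring all of whose localisations at primes are fields is reduced. -/
theorem isReduced_of_surjective_of_hP {R Q : Type*} [CommRing R] [CommRing Q]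
    (hP : ∀ 𝔫 : Ideal R, 𝔫.IsPrime → ∀ x ∈ 𝔫, ∃ s ∉ 𝔫, s * x = 0)
    (f : R →+* Q) (hf : Function.Surjective f) : IsReduced Q := by
  constructor
  intro q hq
  obtain ⟨r, rfl⟩ := hf q
  obtain ⟨n, hn⟩ := hq
  -- the colon ideal
  let J : Ideal R :=
    { carrier := {s | s * r ∈ RingHom.ker f}
      add_mem' := fun {a b} ha hb => by
        show (a + b) * r ∈ RingHom.ker f
        rw [add_mul]; exact Ideal.add_mem _ ha hb
      zero_mem' := by show (0 : R) * r ∈ RingHom.ker f; rw [zero_mul]; exact Ideal.zero_mem _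
      smul_mem' := fun c a ha => by
        show (c • a) * r ∈ RingHom.ker f
        rw [smul_eq_mul, mul_assoc]; exact Ideal.mul_mem_left _ _ ha }
  by_contra hne
  have hJ : J ≠ ⊤ := by
    intro h
    have : (1 : R) ∈ J := by rw [h]; trivial
    have h1 : (1 : R) * r ∈ RingHom.ker f := this
    rw [one_mul, RingHom.mem_ker] at h1
    exact hne h1
  obtain ⟨𝔫, h𝔫, hle⟩ := Ideal.exists_le_maximal J hJ
  have hr𝔫 : r ∈ 𝔫 := by
    have h1 : r ^ n ∈ J := by
      show r ^ n * r ∈ RingHom.ker f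
      rw [RingHom.mem_ker, map_mul, map_pow, hn, zero_mul]
    exact h𝔫.isPrime.mem_of_pow_mem n (hle h1)
  obtain ⟨s, hs, hsr⟩ := hP 𝔫 h𝔫.isPrime r hr𝔫
  have : s ∈ J := by
    show s * r ∈ RingHom.ker f
    rw [hsr]; exact Ideal.zero_mem _
  exact hs (hle this)

/-- A quotient of `k₁ ⊗[k] E` (`k₁/k` algebraic, `E/k` geometrically reduced) is geometrically
reduced over `k₁`. -/
theorem geomReduced_of_surjective {k k₁ E C : Type u} [Field k] [Field k₁] [Field E] [CommRing C]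
    [Algebra k k₁] [Algebra.IsAlgebraic k k₁] [Algebra k E] [Algebra.IsGeometricallyReduced k E]
    [Algebra k C] [Algebra k₁ C] [IsScalarTower k k₁ C] (g : E →ₐ[k] C)
    (hsurj : Function.Surjective
      (Algebra.TensorProduct.productLeftAlgHom (Algebra.ofId k₁ C) g : k₁ ⊗[k] E →ₐ[k₁] C)) :
    Algebra.IsGeometricallyReduced k₁ C := by
  rw [Algebra.isGeometricallyReduced_field_iff]
  haveI : Algebra.IsAlgebraic k (AlgebraicClosure k₁) :=
    Algebra.IsAlgebraic.trans k k₁ (AlgebraicClosure k₁)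
  haveI : IsReduced (AlgebraicClosure k₁ ⊗[k] E) := inferInstance
  have hP := hP_of_left_algebraic (k := k) (K := AlgebraicClosure k₁) (E := E)
  let Ψ : k₁ ⊗[k] E →ₐ[k₁] C := Algebra.TensorProduct.productLeftAlgHom (Algebra.ofId k₁ C) g
  let f₁ : AlgebraicClosure k₁ ⊗[k₁] (k₁ ⊗[k] E) →ₐ[k₁] AlgebraicClosure k₁ ⊗[k₁] C :=
    Algebra.TensorProduct.map (AlgHom.id k₁ (AlgebraicClosure k₁)) Ψ
  have hf₁ : Function.Surjective f₁ :=
    Algebra.TensorProduct.map_surjective _ _ Function.surjective_id hsurj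
  let e : AlgebraicClosure k₁ ⊗[k₁] (k₁ ⊗[k] E) ≃ₐ[k₁] AlgebraicClosure k₁ ⊗[k] E :=
    Algebra.TensorProduct.cancelBaseChange k k₁ k₁ (AlgebraicClosure k₁) E
  let f : AlgebraicClosure k₁ ⊗[k] E →+* AlgebraicClosure k₁ ⊗[k₁] C :=
    f₁.toRingHom.comp (e.symm : AlgebraicClosure k₁ ⊗[k] E →+* _)
  have hf : Function.Surjective f := hf₁.comp e.symm.surjective
  exact isReduced_of_surjective_of_hP hP f hf

end Groth.Agent.Lib.Helper18.Unram
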