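import Mathlib
import Groth.Prelude.Def_EtRam
import Groth.Agent.Lib.Helper18.Unram.ValPart
import Groth.Agent.Lib.Helper18.Unram.ResPart
import Groth.Agent.Lib.Helper18.Unram.Sep

/-! # Assembling the unramified base change argument -/

set_option autoImplicit false
set_option linter.style.haveILetI false

namespace Groth.Agent.Lib.Helper18.Unram

open IsLocalRing TensorProduct Polynomial

universe u

theorem valuation_lt_one_iff_inv_notMem {E : Type*} [Field E] (U : ValuationSubring E) (y : E)
    (hy0 : y ≠ 0) : U.valuation y < 1 ↔ y⁻¹ ∉ U := by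
  have hpos : 0 < U.valuation y := by
    rw [pos_iff_ne_zero]; exact (Valuation.ne_zero_iff _).mpr hy0
  rw [← U.valuation_le_one_iff, map_inv₀, not_le, one_lt_inv₀ hpos]

theorem valuation_comap_lt_one_iff {K₁ F : Type*} [Field K₁] [Field F] (W : ValuationSubring F)
    (f : K₁ →+* F) (x : K₁) : (W.comap f).valuation x < 1 ↔ W.valuation (f x) < 1 := by
  rcases eq_or_ne x 0 with rfl | hx0
  · simp
  · have hfx0 : f x ≠ 0 := (map_ne_zero f).mpr hx0
    rw [valuation_lt_one_iff_inv_notMem _ x hx0, valuation_lt_one_iff_inv_notMem _ (f x) hfx0,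
      ValuationSubring.mem_comap, map_inv₀]

/-- For a separable algebraic field extension `L/k` and any field `κ/k`, `κ ⊗ L` is reduced. -/
theorem isReduced_field_tensor_of_isSeparable {k κ L : Type*} [Field k] [Field κ] [Field L]
    [Algebra k κ] [Algebra k L] [Algebra.IsSeparable k L] : IsReduced (κ ⊗[k] L) := by
  haveI : Algebra.IsAlgebraic k L := Algebra.IsSeparable.isAlgebraic k L
  apply IsReduced.tensorProduct_of_flat_of_forall_fg
  intro B hB
  letI : Field B := (Subalgebra.isField_of_algebraic B).toField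
  haveI : Algebra.IsSeparable k B := Algebra.isSeparable_tower_bot_of_isSeparable k B L
  haveI : Algebra.FiniteType k B := (Subalgebra.fg_iff_finiteType B).mp hB
  haveI : Algebra.FormallyUnramified k B := Algebra.FormallyUnramified.of_isSeparable k B
  haveI : Algebra.FormallyUnramified κ (κ ⊗[k] B) := inferInstance
  haveI : Algebra.EssFiniteType κ (κ ⊗[k] B) := inferInstance
  exact Algebra.FormallyUnramified.isReduced_of_field κ (κ ⊗[k] B)

theorem hP_of_isSeparable {k κ L : Type*} [Field k] [Field κ] [Field L]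
    [Algebra k κ] [Algebra k L] [Algebra.IsSeparable k L] :
    ∀ 𝔫 : Ideal (κ ⊗[k] L), 𝔫.IsPrime → ∀ x ∈ 𝔫, ∃ s ∉ 𝔫, s * x = 0 := by
  intro 𝔫 h𝔫 x hx
  haveI := h𝔫
  haveI : IsReduced (κ ⊗[k] L) := isReduced_field_tensor_of_isSeparable
  haveI : Algebra.IsAlgebraic k L := Algebra.IsSeparable.isAlgebraic k L
  haveI : Algebra.IsIntegral k L := Algebra.IsAlgebraic.isIntegral
  exact exists_notMem_mul_eq_zero_of_isIntegral (k := κ) 𝔫 hx

end Groth.Agent.Lib.Helper18.Unram
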