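import Mathlib

/-! # Computing the ramification index from a factorisation of the uniformiser -/

set_option autoImplicit false

namespace Groth.Agent.Lib.Helper18.Unram

open IsLocalRing

theorem ramificationIdx'_eq_of_factor {A V : Type*} [CommRing A] [IsDomain A]
    [IsDiscreteValuationRing A] [CommRing V] [IsDomain V] [IsLocalRing V] [Algebra A V] {π : A}
    (hπ : Irreducible π) {ϖ : V} (hmV : maximalIdeal V = Ideal.span {ϖ}) (hϖ0 : ϖ ≠ 0) {n : ℕ}
    {u : Vˣ} (h : algebraMap A V π = u * ϖ ^ n) :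
    Ideal.ramificationIdx' (maximalIdeal A) (maximalIdeal V) = n := by
  have hϖnu : ¬ IsUnit ϖ := by
    have : ϖ ∈ maximalIdeal V := by rw [hmV]; exact Ideal.subset_span rfl
    exact (IsLocalRing.mem_maximalIdeal _).mp this
  have hmap : Ideal.map (algebraMap A V) (maximalIdeal A) = Ideal.span {ϖ ^ n} := by
    rw [hπ.maximalIdeal_eq, Ideal.map_span, Set.image_singleton, h]
    exact Ideal.span_singleton_eq_span_singleton.mpr ⟨u⁻¹, by
      rw [mul_comm, ← mul_assoc, Units.inv_mul, one_mul]⟩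
  apply Ideal.ramificationIdx'_spec
  · rw [hmap, hmV, Ideal.span_singleton_pow]
  · rw [hmap, hmV, Ideal.span_singleton_pow, Ideal.span_singleton_le_span_singleton]
    rintro ⟨y, hy⟩
    rw [pow_succ, mul_assoc] at hy
    have h1 : ϖ ^ n * 1 = ϖ ^ n * (ϖ * y) := by rw [mul_one]; exact hy
    have h2 := mul_left_cancel₀ (pow_ne_zero n hϖ0) h1
    exact hϖnu (IsUnit.of_mul_eq_one y h2.symm)

end Groth.Agent.Lib.Helper18.Unram
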