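import Mathlib

/-! # The ring `A[z]/(z^n - π)` over a discrete valuation ring, `n ≥ 1` -/

set_option autoImplicit false

namespace Groth.Agent.Lib.Helper18.Unram

open Polynomial

universe u

variable (A : Type u) [CommRing A] [IsDomain A] [IsDiscreteValuationRing A] (π : A)

theorem rr_monic (n : ℕ) (hn : 0 < n) : (X ^ n - C π : A[X]).Monic :=
  monic_X_pow_sub_C π (by omega)

theorem rr_root_pow (n : ℕ) : (AdjoinRoot.root (X ^ n - C π : A[X])) ^ n = AdjoinRoot.of _ π := by
  have h := AdjoinRoot.mk_self (f := (X ^ n - C π : A[X]))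
  rw [map_sub, map_pow, AdjoinRoot.mk_X, AdjoinRoot.mk_C, sub_eq_zero] at h
  exact h

theorem rr_decomp (n : ℕ) (b : AdjoinRoot (X ^ n - C π : A[X])) :
    ∃ (a : A) (c : AdjoinRoot (X ^ n - C π : A[X])), b = AdjoinRoot.of _ a + AdjoinRoot.root _ * c := by
  obtain ⟨p, rfl⟩ := AdjoinRoot.mk_surjective b
  refine ⟨p.coeff 0, AdjoinRoot.mk _ p.divX, ?_⟩
  conv_lhs => rw [← Polynomial.divX_mul_X_add p]
  rw [map_add, map_mul, AdjoinRoot.mk_X, AdjoinRoot.mk_C]
  ring

theorem rr_max_eq (hπ : Irreducible π) (n : ℕ) (hn : 0 < n) (M : Ideal (AdjoinRoot (X ^ n - C π : A[X])))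
    (hM : M.IsMaximal) : M = Ideal.span {AdjoinRoot.root (X ^ n - C π : A[X])} := by
  haveI : Module.Finite A (AdjoinRoot (X ^ n - C π : A[X])) := (rr_monic A π n hn).finite_adjoinRoot
  haveI : Algebra.IsIntegral A (AdjoinRoot (X ^ n - C π : A[X])) := Algebra.IsIntegral.of_finite _ _
  have hc : (M.comap (algebraMap A (AdjoinRoot (X ^ n - C π : A[X])))).IsMaximal :=
    Ideal.isMaximal_comap_of_isIntegral_of_isMaximal M
  have hc' := IsLocalRing.eq_maximalIdeal hc
  have hπM : AdjoinRoot.of (X ^ n - C π : A[X]) π ∈ M := by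
    have : π ∈ M.comap (algebraMap A (AdjoinRoot (X ^ n - C π : A[X]))) := by
      rw [hc']; exact hπ.not_isUnit
    exact this
  have hx : AdjoinRoot.root (X ^ n - C π : A[X]) ∈ M := by
    rw [← rr_root_pow] at hπM
    exact hM.isPrime.mem_of_pow_mem _ hπM
  apply le_antisymm
  · intro b hb
    obtain ⟨a, c, rfl⟩ := rr_decomp A π n b
    have ha : AdjoinRoot.of (X ^ n - C π : A[X]) a ∈ M := by
      have := M.sub_mem hb (M.mul_mem_right c hx)
      simpa using this
    have ha' : a ∈ IsLocalRing.maximalIdeal A := by rw [← hc']; exact ha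
    rw [hπ.maximalIdeal_eq, Ideal.mem_span_singleton] at ha'
    obtain ⟨d, rfl⟩ := ha'
    rw [map_mul, ← rr_root_pow]
    apply Ideal.add_mem
    · have : (AdjoinRoot.root (X ^ n - C π : A[X])) ^ n =
          AdjoinRoot.root (X ^ n - C π : A[X]) * (AdjoinRoot.root (X ^ n - C π : A[X])) ^ (n - 1) := by
        rw [← pow_succ']; congr 1; omega
      rw [this, mul_assoc]
      exact Ideal.mul_mem_right _ _ (Ideal.mem_span_singleton_self _)
    · exact Ideal.mul_mem_right _ _ (Ideal.mem_span_singleton_self _)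
  · rw [Ideal.span_le]; simpa using hx

theorem rr_nontrivial (n : ℕ) (hn : 0 < n) : Nontrivial (AdjoinRoot (X ^ n - C π : A[X])) :=
  AdjoinRoot.nontrivial _ (by
    rw [degree_eq_natDegree (rr_monic A π n hn).ne_zero, natDegree_X_pow_sub_C]
    exact_mod_cast hn.ne')

theorem rr_isLocalRing (hπ : Irreducible π) (n : ℕ) (hn : 0 < n) :
    IsLocalRing (AdjoinRoot (X ^ n - C π : A[X])) := by
  haveI := rr_nontrivial A π n hn
  obtain ⟨M, hM⟩ := Ideal.exists_maximal (AdjoinRoot (X ^ n - C π : A[X]))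
  refine IsLocalRing.of_unique_max_ideal ⟨M, hM, fun M' hM' => ?_⟩
  rw [rr_max_eq A π hπ n hn M hM, rr_max_eq A π hπ n hn M' hM']

theorem rr_maximalIdeal (hπ : Irreducible π) (n : ℕ) (hn : 0 < n)
    [IsLocalRing (AdjoinRoot (X ^ n - C π : A[X]))] :
    IsLocalRing.maximalIdeal (AdjoinRoot (X ^ n - C π : A[X])) =
      Ideal.span {AdjoinRoot.root (X ^ n - C π : A[X])} :=
  rr_max_eq A π hπ n hn _ (IsLocalRing.maximalIdeal.isMaximal _)

/-- The residue field of `A[z]/(z^n - π)` is that of `A`. -/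
theorem rr_residue_surjective (hπ : Irreducible π) (n : ℕ) (hn : 0 < n)
    [IsLocalRing (AdjoinRoot (X ^ n - C π : A[X]))]
    (c : IsLocalRing.ResidueField (AdjoinRoot (X ^ n - C π : A[X]))) :
    ∃ a : A, IsLocalRing.residue _ (AdjoinRoot.of (X ^ n - C π : A[X]) a) = c := by
  obtain ⟨b, rfl⟩ := IsLocalRing.residue_surjective c
  obtain ⟨a, c', rfl⟩ := rr_decomp A π n b
  refine ⟨a, ?_⟩
  rw [map_add, map_mul]
  have : IsLocalRing.residue _ (AdjoinRoot.root (X ^ n - C π : A[X])) = 0 := by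
    rw [IsLocalRing.residue_eq_zero_iff, rr_maximalIdeal A π hπ n hn]
    exact Ideal.mem_span_singleton_self _
  rw [this, zero_mul, add_zero]

end Groth.Agent.Lib.Helper18.Unram
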