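import Mathlib
import Groth.Prelude.Def_EtRam
import Groth.Agent.Lib.Helper18.Unram.RamIdx
import Groth.Agent.Lib.Helper18.Unram.RootRing
import Groth.Agent.Lib.Helper24.Tame.Tower

/-! # Unramified over `A[π^{1/e}]` with `e` prime to the residue characteristic implies tame over `A` -/

set_option autoImplicit false
set_option linter.style.haveILetI false

namespace Groth.Agent.Lib.Helper18.Unram

open IsLocalRing Polynomial

universe u

variable {A K L' : Type u} [CommRing A] [IsDomain A] [IsDiscreteValuationRing A] [Field K]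
  [Algebra A K] [IsFractionRing A K] [Field L'] [Algebra K L']

set_option maxHeartbeats 800000 in
theorem tame_of_unramified_over_root (π : A) (hπ : Irreducible π) (e : ℕ) (he : 0 < e)
    (he0 : (e : ResidueField A) ≠ 0)
    [Algebra (AdjoinRoot (X ^ e - C π : A[X])) L']
    (hcompat : (algebraMap (AdjoinRoot (X ^ e - C π : A[X])) L').comp
        (AdjoinRoot.of (X ^ e - C π)) = (algebraMap K L').comp (algebraMap A K))
    [IsLocalRing (AdjoinRoot (X ^ e - C π : A[X]))]
    (Hunr : EtRam.IsUnramifiedExt (AdjoinRoot (X ^ e - C π : A[X]))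
      (algebraMap (AdjoinRoot (X ^ e - C π : A[X])) L')) :
    EtRam.IsTamelyRamified A ((algebraMap K L').comp (algebraMap A K)) := by
  intro W hW
  let gA' : A →+* L' := (algebraMap K L').comp (algebraMap A K)
  letI algAW : Algebra A W := (RingHom.codRestrict gA' W hW.1).toAlgebra
  intro hlocAW
  let φ₂ : AdjoinRoot (X ^ e - C π : A[X]) →+* L' := algebraMap _ L'
  have hcompatA : ∀ a : A, φ₂ (AdjoinRoot.of _ a) = gA' a := fun a => RingHom.congr_fun hcompat a
  have hgA'inj : Function.Injective gA' :=
    (algebraMap K L').injective.comp (IsFractionRing.injective A K)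
  have hmA' := rr_maximalIdeal A π hπ e he
  have hrootmem : AdjoinRoot.root (X ^ e - C π : A[X]) ∈
      maximalIdeal (AdjoinRoot (X ^ e - C π : A[X])) := by
    rw [hmA']; exact Ideal.mem_span_singleton_self _
  have hlocAA' : ∀ a ∈ maximalIdeal A, AdjoinRoot.of (X ^ e - C π : A[X]) a ∈
      maximalIdeal (AdjoinRoot (X ^ e - C π : A[X])) := by
    intro a ha
    rw [hπ.maximalIdeal_eq] at ha
    obtain ⟨a', rfl⟩ := Ideal.mem_span_singleton'.mp ha
    rw [map_mul, ← rr_root_pow]
    exact Ideal.mul_mem_left _ _ (Ideal.pow_mem_of_mem _ hrootmem e he)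
  haveI hlocAA'i : IsLocalHom (algebraMap A (AdjoinRoot (X ^ e - C π : A[X]))) := by
    constructor
    intro a ha
    by_contra hna
    exact (IsLocalRing.mem_maximalIdeal _).mp (hlocAA' a ((IsLocalRing.mem_maximalIdeal _).mpr hna)) ha
  set ζ : L' := φ₂ (AdjoinRoot.root _) with hζ
  have hζpow : ζ ^ e = gA' π := by
    rw [hζ, ← map_pow, rr_root_pow, hcompatA]
  have hπ0 : gA' π ≠ 0 := fun h0 => hπ.ne_zero (hgA'inj (h0.trans (map_zero gA').symm))
  have hζ0 : ζ ≠ 0 := by
    intro h0
    rw [h0, zero_pow he.ne'] at hζpow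
    exact hπ0 hζpow.symm
  have hπlt : W.valuation (gA' π) < 1 :=
    hW.2 π ((IsLocalRing.mem_maximalIdeal _).mpr hπ.not_isUnit)
  have hζlt : W.valuation ζ < 1 := by
    by_contra hge
    rw [not_lt] at hge
    have : 1 ≤ W.valuation ζ ^ e := one_le_pow₀ hge
    rw [← map_pow, hζpow] at this
    exact absurd hπlt (not_lt.mpr this)
  have hζW : ζ ∈ W := (W.valuation_le_one_iff ζ).mp hζlt.le
  -- `W` dominates `A'`
  have hrange : ∀ a' : AdjoinRoot (X ^ e - C π : A[X]), φ₂ a' ∈ W := by
    intro a'
    obtain ⟨p, rfl⟩ := AdjoinRoot.mk_surjective a'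
    induction p using Polynomial.induction_on with
    | C a =>
      rw [AdjoinRoot.mk_C, hcompatA]; exact hW.1 a
    | add p q hp hq =>
      rw [map_add, map_add]; exact W.add_mem _ _ hp hq
    | monomial n a ih =>
      rw [pow_succ, ← mul_assoc, map_mul, map_mul, AdjoinRoot.mk_X]
      exact W.mul_mem _ _ ih hζW
  have hW' : EtRam.Dominates (AdjoinRoot (X ^ e - C π : A[X])) φ₂ W := by
    refine ⟨hrange, fun a' ha' => ?_⟩
    rw [hmA'] at ha'
    obtain ⟨b, rfl⟩ := Ideal.mem_span_singleton'.mp ha'
    rw [map_mul, map_mul]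
    have h1 : W.valuation (φ₂ b) ≤ 1 := (W.valuation_le_one_iff _).mpr (hrange b)
    calc W.valuation (φ₂ b) * W.valuation (φ₂ (AdjoinRoot.root _))
        ≤ 1 * W.valuation (φ₂ (AdjoinRoot.root _)) := mul_le_mul_left h1 _
      _ = W.valuation ζ := one_mul _
      _ < 1 := hζlt
  letI algA'W : Algebra (AdjoinRoot (X ^ e - C π : A[X])) W :=
    (RingHom.codRestrict φ₂ W hW'.1).toAlgebra
  haveI hlocA'W : IsLocalHom (algebraMap (AdjoinRoot (X ^ e - C π : A[X])) W) :=
    Groth.Agent.Lib.Helper24.TameTower.isLocalHom_of_dominates hW'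
  obtain ⟨hwu, hsepW⟩ := Hunr W hW'
  have htower : ∀ a : A, algebraMap A W a =
      algebraMap (AdjoinRoot (X ^ e - C π : A[X])) W (algebraMap A _ a) := fun a =>
    Subtype.ext (hcompatA a).symm
  refine ⟨?_, ?_⟩
  · -- separability
    haveI : IsScalarTower (ResidueField A) (ResidueField (AdjoinRoot (X ^ e - C π : A[X])))
        (ResidueField W) := by
      apply IsScalarTower.of_algebraMap_eq
      intro c
      obtain ⟨a, rfl⟩ := residue_surjective c
      rw [ResidueField.algebraMap_residue, ResidueField.algebraMap_residue,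
        ResidueField.algebraMap_residue, htower]
    haveI : Algebra.IsSeparable (ResidueField A)
        (ResidueField (AdjoinRoot (X ^ e - C π : A[X]))) := by
      constructor
      intro x
      obtain ⟨a, rfl⟩ := rr_residue_surjective A π hπ e he x
      have : residue _ (AdjoinRoot.of (X ^ e - C π : A[X]) a) =
          algebraMap (ResidueField A) (ResidueField (AdjoinRoot (X ^ e - C π : A[X])))
            (residue A a) := (ResidueField.algebraMap_residue a).symm
      rw [this]
      exact isSeparable_algebraMap _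
    haveI := hsepW
    exact Algebra.IsSeparable.trans (ResidueField A)
      (ResidueField (AdjoinRoot (X ^ e - C π : A[X]))) (ResidueField W)
  · intro p hp hchar hdvd
    haveI := hchar
    let ζW : W := algebraMap (AdjoinRoot (X ^ e - C π : A[X])) W (AdjoinRoot.root _)
    have hmW : maximalIdeal W = Ideal.span {ζW} := by
      have h1 : Ideal.map (algebraMap (AdjoinRoot (X ^ e - C π : A[X])) W)
          (maximalIdeal (AdjoinRoot (X ^ e - C π : A[X]))) = maximalIdeal W := hwu
      rw [← h1, hmA', Ideal.map_span, Set.image_singleton]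
    have hζW0 : ζW ≠ 0 := fun h0 => hζ0 (congrArg Subtype.val h0)
    have hfac : algebraMap A W π = ((1 : Wˣ) : W) * ζW ^ e := by
      rw [Units.val_one, one_mul]
      apply Subtype.ext
      show gA' π = (ζW : L') ^ e
      exact hζpow.symm
    have hidx : Ideal.ramificationIdx' (maximalIdeal A) (maximalIdeal W) = e :=
      ramificationIdx'_eq_of_factor hπ hmW hζW0 hfac
    rw [hidx] at hdvd
    exact he0 ((CharP.cast_eq_zero_iff (ResidueField A) p e).mpr hdvd)

end Groth.Agent.Lib.Helper18.Unram
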