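import Mathlib
import Groth.Prelude.Def_EtRam
import Groth.Agent.Lib.Helper18.Unram.Sep
import Groth.Agent.Lib.Helper18.Unram.DVRFin

/-! # The ramification index is bounded by the degree -/

set_option autoImplicit false
set_option linter.style.haveILetI false

namespace Groth.Agent.Lib.Helper18.Unram

open IsLocalRing Polynomial

universe u

variable {A K K₁ : Type u} [CommRing A] [IsDomain A] [IsDiscreteValuationRing A] [Field K]
  [Algebra A K] [IsFractionRing A K] [Field K₁] [Algebra K K₁] [FiniteDimensional K K₁]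

/-- injectivity of powers of an element of value in `(0,1)` -/
theorem pow_inj_of_lt_one {Γ : Type*} [LinearOrderedCommGroupWithZero Γ] {x : Γ} (h0 : 0 < x)
    (h1 : x < 1) {a b : ℕ} (h : x ^ a = x ^ b) : a = b := by
  rcases lt_trichotomy a b with hlt | heq | hgt
  · exact absurd h (ne_of_gt (pow_lt_pow_right_of_lt_one₀ h0 h1 hlt))
  · exact heq
  · exact absurd h (ne_of_lt (pow_lt_pow_right_of_lt_one₀ h0 h1 hgt))

theorem ramIdx_le_finrank (V : ValuationSubring K₁)
    (hV : EtRam.Dominates A ((algebraMap K K₁).comp (algebraMap A K)) V) {π : A}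
    (hπ : Irreducible π) (ϖ : V) (hϖ0 : (ϖ : K₁) ≠ 0) (hϖlt : V.valuation (ϖ : K₁) < 1)
    (n : ℕ) (u : Vˣ)
    (h : ((algebraMap K K₁).comp (algebraMap A K)) π = ((u : V) : K₁) * (ϖ : K₁) ^ n) :
    n ≤ Module.finrank K K₁ := by
  set gA : A →+* K₁ := (algebraMap K K₁).comp (algebraMap A K) with hgA
  have hgAinj : Function.Injective gA :=
    (algebraMap K K₁).injective.comp (IsFractionRing.injective A K)
  have hint : IsIntegral K (ϖ : K₁) := Algebra.IsIntegral.isIntegral _
  set p : A[X] := IsLocalization.integerNormalization (nonZeroDivisors A) (minpoly K (ϖ : K₁))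
    with hp
  have hp0 : p ≠ 0 := by
    rw [hp, Ne, IsFractionRing.integerNormalization_eq_zero_iff]
    exact minpoly.ne_zero hint
  have hpe : p.eval₂ gA (ϖ : K₁) = 0 := by
    rw [hp, hgA]
    apply IsLocalization.integerNormalization_eval₂_eq_zero
    have := minpoly.aeval K (ϖ : K₁)
    rwa [aeval_def] at this
  have hdeg : p.natDegree ≤ Module.finrank K K₁ := by
    refine le_trans ?_ (minpoly.natDegree_le (ϖ : K₁))
    rw [natDegree_le_iff_coeff_eq_zero]
    intro N hN
    have h0 : (minpoly K (ϖ : K₁)).coeff N = 0 := coeff_eq_zero_of_natDegree_lt hN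
    by_contra hne
    have hmem : N ∈ p.support := mem_support_iff.mpr hne
    have := IsLocalization.integerNormalization_support (nonZeroDivisors A)
      (minpoly K (ϖ : K₁)) hmem
    exact (mem_support_iff.mp this) h0
  obtain ⟨m, a, b, hm, hmle, hrel⟩ := rel_of_root hV hgAinj hπ (ϖ : K₁) hϖ0 p hp0 hpe
  have hu : V.valuation ((u : V) : K₁) = 1 := (V.valuation_eq_one_iff _).mp u.isUnit
  have hvπ : V.valuation (gA π) = V.valuation (ϖ : K₁) ^ n := by
    rw [h, map_mul, hu, one_mul, map_pow]
  have hpos : 0 < V.valuation (ϖ : K₁) := by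
    rw [pos_iff_ne_zero]; exact (Valuation.ne_zero_iff _).mpr hϖ0
  rw [hvπ, ← pow_mul, ← pow_mul, ← pow_add] at hrel
  have hab := pow_inj_of_lt_one hpos hϖlt hrel
  have hdvd : n ∣ m := by
    have h1 : m = n * a - n * b := by omega
    rw [h1, ← Nat.mul_sub]
    exact dvd_mul_right _ _
  exact (Nat.le_of_dvd hm hdvd).trans (hmle.trans hdeg)

end Groth.Agent.Lib.Helper18.Unram
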