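import Mathlib
import Groth.Prelude.Def_EtRam
import Groth.Agent.Lib.Helper18.Unram.Assemble
import Groth.Agent.Lib.Helper18.Unram.VNR
import Groth.Agent.Lib.Helper18.Unram.DVRFin
import Groth.Agent.Lib.Helper18.Unram.ResRoot
import Groth.Agent.Lib.Helper18.Unram.RamIdx
import Groth.Agent.Lib.Helper18.Unram.RootRing
import Groth.Agent.Lib.Helper18.Unram.AbhSep
import Groth.Agent.Lib.Helper18.Unram.RamBound
import Groth.Agent.Lib.Helper24.Tame.Tower

/-! # Abhyankar's lemma: a tamely ramified extension becomes unramified over `A[π^{1/e}]` -/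

set_option autoImplicit false
set_option linter.style.haveILetI false

namespace Groth.Agent.Lib.Helper18.Unram

open IsLocalRing Polynomial

universe u

variable {A K L L' : Type u} [CommRing A] [IsDomain A] [IsDiscreteValuationRing A] [Field K]
  [Algebra A K] [IsFractionRing A K] [Field L] [Algebra K L] [FiniteDimensional K L]
  [Field L'] [Algebra K L'] [Algebra L L'] [IsScalarTower K L L'] [FiniteDimensional K L']

set_option maxHeartbeats 1600000 in
theorem unramified_over_root (π : A) (hπ : Irreducible π)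
    (h : EtRam.IsTamelyRamified A ((algebraMap K L).comp (algebraMap A K)))
    (e : ℕ) (he : 0 < e)
    (hdiv : ∀ m : ℕ, 0 < m → m ≤ Module.finrank K L → (m : ResidueField A) ≠ 0 → m ∣ e)
    [Algebra (AdjoinRoot (X ^ e - C π : A[X])) L']
    (hcompat : (algebraMap (AdjoinRoot (X ^ e - C π : A[X])) L').comp
        (AdjoinRoot.of (X ^ e - C π)) = (algebraMap K L').comp (algebraMap A K))
    (hgenL : Algebra.adjoin L
      {algebraMap (AdjoinRoot (X ^ e - C π : A[X])) L' (AdjoinRoot.root _)} = ⊤)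
    [IsLocalRing (AdjoinRoot (X ^ e - C π : A[X]))] :
    EtRam.IsUnramifiedExt (AdjoinRoot (X ^ e - C π : A[X]))
      (algebraMap (AdjoinRoot (X ^ e - C π : A[X])) L') := by
  intro W hW
  letI algA'W : Algebra (AdjoinRoot (X ^ e - C π : A[X])) W :=
    (RingHom.codRestrict _ W hW.1).toAlgebra
  intro hlocA'W
  let ψ : L →+* L' := algebraMap L L'
  let gA : A →+* L := (algebraMap K L).comp (algebraMap A K)
  let gA' : A →+* L' := (algebraMap K L').comp (algebraMap A K)
  let φ₂ : AdjoinRoot (X ^ e - C π : A[X]) →+* L' := algebraMap _ L'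
  have hgA' : ∀ a : A, gA' a = ψ (gA a) := by
    intro a
    show algebraMap K L' (algebraMap A K a) = algebraMap L L' (algebraMap K L (algebraMap A K a))
    rw [← IsScalarTower.algebraMap_apply K L L']
  have hcompatA : ∀ a : A, ψ (gA a) = φ₂ (AdjoinRoot.of _ a) := by
    intro a
    rw [← hgA']
    exact (RingHom.congr_fun hcompat a).symm
  have hgAinj : Function.Injective gA :=
    (algebraMap K L).injective.comp (IsFractionRing.injective A K)
  have hgA'inj : Function.Injective gA' :=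
    (algebraMap K L').injective.comp (IsFractionRing.injective A K)
  have hπ0 : π ≠ 0 := hπ.ne_zero
  have hmA' := rr_maximalIdeal A π hπ e he
  have hrootmem : AdjoinRoot.root (X ^ e - C π : A[X]) ∈
      maximalIdeal (AdjoinRoot (X ^ e - C π : A[X])) := by
    rw [hmA']; exact Ideal.mem_span_singleton_self _
  have hlocAA' : ∀ a ∈ maximalIdeal A, AdjoinRoot.of (X ^ e - C π : A[X]) a ∈
      maximalIdeal (AdjoinRoot (X ^ e - C π : A[X])) := by
    intro a ha
    rw [hπ.maximalIdeal_eq] at ha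
    obtain ⟨a', rfl⟩ := Ideal.mem_span_singleton'.mp ha
    rw [map_mul, ← rr_root_pow]
    exact Ideal.mul_mem_left _ _ (Ideal.pow_mem_of_mem _ hrootmem e he)
  haveI hlocAA'i : IsLocalHom (algebraMap A (AdjoinRoot (X ^ e - C π : A[X]))) := by
    constructor
    intro a ha
    by_contra hna
    exact (IsLocalRing.mem_maximalIdeal _).mp (hlocAA' a ((IsLocalRing.mem_maximalIdeal _).mpr hna)) ha
  -- the valuation ring of `L`
  let V : ValuationSubring L := W.comap ψ
  have hV : EtRam.Dominates A gA V := by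
    refine ⟨fun a => ?_, fun a ha => ?_⟩
    · show ψ (gA a) ∈ W
      rw [hcompatA]; exact hW.1 _
    · rw [valuation_comap_lt_one_iff, hcompatA]
      exact hW.2 _ (hlocAA' a ha)
  letI algAV : Algebra A V := (RingHom.codRestrict gA V hV.1).toAlgebra
  haveI hlocAV : IsLocalHom (algebraMap A V) :=
    Groth.Agent.Lib.Helper24.TameTower.isLocalHom_of_dominates hV
  obtain ⟨hsepV, hram⟩ := h V hV
  obtain ⟨ϖ, hmV, hϖ0, hfac⟩ := exists_generator' V hV
  have hϖV0 : ϖ ≠ 0 := fun h => hϖ0 (by rw [h]; rfl)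
  have hπV0 : algebraMap A V π ≠ 0 := by
    intro h
    have h1 : gA π = 0 := congrArg Subtype.val h
    exact hπ0 (hgAinj (h1.trans (map_zero gA).symm))
  obtain ⟨eV, uV, huV⟩ := hfac (algebraMap A V π) hπV0
  have heV : Ideal.ramificationIdx' (maximalIdeal A) (maximalIdeal V) = eV :=
    ramificationIdx'_eq_of_factor hπ hmV hϖV0 huV
  have hϖmem : ϖ ∈ maximalIdeal V := by rw [hmV]; exact Ideal.subset_span rfl
  have hϖltV : V.valuation (ϖ : L) < 1 := (V.valuation_lt_one_iff _).mp hϖmem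
  have heVpos : 0 < eV := by
    rcases Nat.eq_zero_or_pos eV with h0 | h0
    · exfalso
      rw [h0, pow_zero, mul_one] at huV
      have : algebraMap A V π ∈ maximalIdeal V := by
        rw [V.valuation_lt_one_iff]
        exact hV.2 π ((IsLocalRing.mem_maximalIdeal _).mpr hπ.not_isUnit)
      exact (IsLocalRing.mem_maximalIdeal _).mp this (huV ▸ uV.isUnit)
    · exact h0
  have he0 : ((eV : ℕ) : ResidueField A) ≠ 0 := by
    obtain ⟨p, hp⟩ := CharP.exists (ResidueField A)
    haveI := hp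
    rcases CharP.char_is_prime_or_zero (ResidueField A) p with hpp | hp0
    · rw [Ne, CharP.cast_eq_zero_iff (ResidueField A) p, ← heV]
      exact hram p hpp hp
    · subst hp0
      haveI : CharZero (ResidueField A) := CharP.charP_to_charZero _
      exact Nat.cast_ne_zero.mpr heVpos.ne'
  have heVle : eV ≤ Module.finrank K L := by
    refine ramIdx_le_finrank V hV hπ ϖ hϖ0 hϖltV eV uV ?_
    have := congrArg Subtype.val huV
    exact this
  obtain ⟨d, hd⟩ := hdiv eV heVpos heVle he0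
  have hdpos : 0 < d := by
    rcases Nat.eq_zero_or_pos d with h0 | h0
    · rw [h0, mul_zero] at hd; omega
    · exact h0
  let φ₁ : V →+* L' := ψ.comp V.subtype
  have h₁ : EtRam.Dominates V φ₁ W := by
    refine ⟨fun v => v.2, fun v hv => ?_⟩
    rw [V.valuation_lt_one_iff, valuation_comap_lt_one_iff] at hv
    exact hv
  have hφ₁A : ∀ a : A, φ₁ (algebraMap A V a) = φ₂ (AdjoinRoot.of _ a) := fun a => hcompatA a
  have hφϖ0 : φ₁ ϖ ≠ 0 := (map_ne_zero ψ).mpr hϖ0
  set ζ : L' := φ₂ (AdjoinRoot.root _) with hζ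
  have hζpow : ζ ^ e = φ₂ (AdjoinRoot.of _ π) := by
    rw [hζ, ← map_pow, rr_root_pow]
  have hP0 : φ₂ (AdjoinRoot.of _ π) ≠ 0 := by
    rw [← hcompatA, ← hgA']
    exact fun h0 => hπ0 (hgA'inj (h0.trans (map_zero gA').symm))
  have hζ0 : ζ ≠ 0 := by
    intro h0
    rw [h0, zero_pow he.ne'] at hζpow
    exact hP0 hζpow.symm
  -- the root of a unit
  set θ : L' := φ₁ ϖ / ζ ^ d with hθdef
  have e2 : φ₁ uV * φ₁ ϖ ^ eV = φ₂ (AdjoinRoot.of _ π) := by
    rw [← hφ₁A, huV, map_mul, map_pow]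
  have huV0 : φ₁ uV ≠ 0 := by
    intro h0
    rw [h0, zero_mul] at e2
    exact hP0 e2.symm
  have hθ : θ ^ eV = φ₂ 1 * φ₁ ((uV⁻¹ : Vˣ) : V) := by
    have h1 : φ₁ ((uV⁻¹ : Vˣ) : V) * φ₁ uV = 1 := by
      rw [← map_mul, Units.inv_mul, map_one]
    rw [hθdef, div_pow, ← pow_mul, mul_comm d eV, ← hd, hζpow, ← e2, map_one, one_mul]
    field_simp
    rw [mul_comm] at h1
    rw [h1]
  have hu₁ : IsUnit (((uV⁻¹ : Vˣ) : V)) := (uV⁻¹).isUnit
  have hu₂ : IsUnit (1 : AdjoinRoot (X ^ e - C π : A[X])) := isUnit_one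
  set D := genRingRoot φ₁ φ₂ θ with hD
  have hφ₁ϖ : φ₁ ϖ = ζ * (θ * ζ ^ (d - 1)) := by
    rw [hθdef]
    have : ζ ^ d = ζ * ζ ^ (d - 1) := by
      rw [← pow_succ', Nat.sub_add_cancel hdpos]
    rw [this]
    field_simp
  have hm₁ : ∀ v ∈ maximalIdeal V, ∃ d' ∈ D, φ₁ v = φ₂ (AdjoinRoot.root _) * d' := by
    intro v hv
    rw [hmV] at hv
    obtain ⟨v', rfl⟩ := Ideal.mem_span_singleton'.mp hv
    refine ⟨φ₁ v' * (θ * ζ ^ (d - 1)), D.mul_mem
      (mem_genRingRoot_left _ _ θ v')
      (D.mul_mem (mem_genRingRoot_root _ _ θ)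
        (D.pow_mem (mem_genRingRoot_right _ _ θ _) _)), ?_⟩
    rw [map_mul, hφ₁ϖ]; ring
  have hk : ∀ c : ResidueField A, ∃ (v₁ : V) (v₂ : AdjoinRoot (X ^ e - C π : A[X])),
      algebraMap (ResidueField A) (ResidueField V) c = residue V v₁ ∧
      algebraMap (ResidueField A) (ResidueField (AdjoinRoot (X ^ e - C π : A[X]))) c =
        residue _ v₂ ∧ φ₁ v₁ = φ₂ v₂ := by
    intro c
    obtain ⟨a, rfl⟩ := residue_surjective c
    exact ⟨algebraMap A V a, algebraMap A _ a, ResidueField.algebraMap_residue _,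
      ResidueField.algebraMap_residue _, hφ₁A a⟩
  haveI halgA' : Algebra.IsAlgebraic (ResidueField A)
      (ResidueField (AdjoinRoot (X ^ e - C π : A[X]))) := by
    constructor
    intro x
    obtain ⟨a, rfl⟩ := rr_residue_surjective A π hπ e he x
    have : residue _ (AdjoinRoot.of (X ^ e - C π : A[X]) a) =
        algebraMap (ResidueField A) (ResidueField (AdjoinRoot (X ^ e - C π : A[X])))
          (residue A a) := (ResidueField.algebraMap_residue a).symm
    rw [this]
    exact isAlgebraic_algebraMap _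
  haveI := hsepV
  haveI hredT : IsReduced (TensorProduct (ResidueField A)
      (ResidueField (AdjoinRoot (X ^ e - C π : A[X]))) (ResidueField V)) :=
    isReduced_field_tensor_of_isSeparable
  have hmaxT : ∀ 𝔭 : Ideal (TensorProduct (ResidueField A)
      (ResidueField (AdjoinRoot (X ^ e - C π : A[X]))) (ResidueField V)),
      𝔭.IsPrime → 𝔭.IsMaximal := by
    intro 𝔭 h𝔭
    haveI := h𝔭
    exact isMaximal_of_isPrime_of_left_algebraic 𝔭
  have heu : IsUnit ((eV : ℕ) : TensorProduct (ResidueField A)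
      (ResidueField (AdjoinRoot (X ^ e - C π : A[X]))) (ResidueField V)) := by
    have h1 : IsUnit ((eV : ℕ) : ResidueField A) := isUnit_iff_ne_zero.mpr he0
    have := h1.map (algebraMap (ResidueField A)
      (TensorProduct (ResidueField A)
        (ResidueField (AdjoinRoot (X ^ e - C π : A[X]))) (ResidueField V)))
    rwa [map_natCast] at this
  have hf3 := f3_of_residue_root (W := W) (φ₁ := φ₁) (φ₂ := φ₂)
    h₁ hW (AdjoinRoot.root _) (ResidueField A) θ eV heVpos _ _ hu₁ hu₂ hθ hm₁ hmA' hk hmaxT heu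
  have hθv := val_root_eq_one h₁ hW θ eV heVpos _ _ hu₁ hu₂ hθ
  have hθW : θ ∈ W := (W.valuation_le_one_iff θ).mp hθv.le
  have hDW := genRingRoot_le h₁ hW θ hθW
  -- `L'` is algebraic over `A`
  have hWA : EtRam.Dominates A gA' W := by
    refine ⟨fun a => ?_, fun a ha => ?_⟩
    · rw [hgA', hcompatA]; exact hW.1 _
    · rw [hgA', hcompatA]; exact hW.2 _ (hlocAA' a ha)
  have halg : ∀ y : L', y ≠ 0 → ∃ p : Polynomial A, p ≠ 0 ∧ p.eval₂ gA' y = 0 := by
    letI algAL' : Algebra A L' := gA'.toAlgebra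
    haveI : IsScalarTower A K L' := IsScalarTower.of_algebraMap_eq (fun _ => rfl)
    intro y _
    have h1 : IsAlgebraic K y := (Algebra.IsIntegral.isIntegral y).isAlgebraic
    have h2 : IsAlgebraic A y := (IsFractionRing.isAlgebraic_iff A K L').mpr h1
    obtain ⟨p, hp0, hp⟩ := h2
    exact ⟨p, hp0, by rw [← hp, Polynomial.aeval_def]; rfl⟩
  have hζlt : W.valuation ζ < 1 := hW.2 _ hrootmem
  have hsepW : ∀ y ∈ D, y ≠ 0 → ∃ n : ℕ, ¬ (W.valuation y ≤ W.valuation ζ ^ n) := by
    intro y _ hy0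
    obtain ⟨p, hp0, hp⟩ := halg y hy0
    obtain ⟨n, hn⟩ := sep_of_algebraic hWA hgA'inj hπ y hy0 p hp0 hp
    refine ⟨e * n, fun hle => hn ?_⟩
    rw [hgA', hcompatA, ← hζpow, map_pow, ← pow_mul]
    exact hle
  -- generation
  have hgen : ∀ x : L', ∃ d₁ ∈ D, ∃ d₂ ∈ D, d₂ ≠ 0 ∧ x = d₁ / d₂ := by
    intro x
    have hx : x ∈ Algebra.adjoin L {ζ} := by rw [hζ, hgenL]; trivial
    induction hx using Algebra.adjoin_induction with
    | mem x hx =>
      rw [Set.mem_singleton_iff] at hx
      subst hx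
      exact ⟨ζ, mem_genRingRoot_right _ _ θ _, 1, D.one_mem, one_ne_zero, (div_one _).symm⟩
    | algebraMap l =>
      obtain ⟨v₁, v₂, hv₂, rfl⟩ := IsFractionRing.div_surjective (A := V) l
      have hv₂0 : φ₁ v₂ ≠ 0 := by
        have : (v₂ : L) ≠ 0 := fun h0 => (nonZeroDivisors.ne_zero hv₂) (Subtype.ext h0)
        exact (map_ne_zero ψ).mpr this
      refine ⟨φ₁ v₁, mem_genRingRoot_left _ _ θ v₁, φ₁ v₂,
        mem_genRingRoot_left _ _ θ v₂, hv₂0, ?_⟩
      rw [map_div₀]; rfl
    | add x y _ _ hx hy =>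
      obtain ⟨d₁, hd₁, d₂, hd₂, hd₂0, rfl⟩ := hx
      obtain ⟨e₁, he₁, e₂, he₂, he₂0, rfl⟩ := hy
      exact ⟨d₁ * e₂ + d₂ * e₁, D.add_mem (D.mul_mem hd₁ he₂) (D.mul_mem hd₂ he₁), d₂ * e₂,
        D.mul_mem hd₂ he₂, mul_ne_zero hd₂0 he₂0, div_add_div _ _ hd₂0 he₂0⟩
    | mul x y _ _ hx hy =>
      obtain ⟨d₁, hd₁, d₂, hd₂, hd₂0, rfl⟩ := hx
      obtain ⟨e₁, he₁, e₂, he₂, he₂0, rfl⟩ := hy
      exact ⟨d₁ * e₁, D.mul_mem hd₁ he₁, d₂ * e₂, D.mul_mem hd₂ he₂, mul_ne_zero hd₂0 he₂0,
        div_mul_div_comm _ _ _ _⟩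
  have hU : UData W D ζ :=
    { hDW := hDW
      hϖD := mem_genRingRoot_right _ _ θ _
      hϖ := hζlt
      hϖ0 := hζ0
      sep := hsepW
      f3 := hf3
      gen := hgen }
  refine ⟨?_, ?_⟩
  · -- weakly unramified
    show Ideal.map (algebraMap (AdjoinRoot (X ^ e - C π : A[X])) W)
      (maximalIdeal (AdjoinRoot (X ^ e - C π : A[X]))) = maximalIdeal W
    apply le_antisymm
    · rw [Ideal.map_le_iff_le_comap]
      intro v hv
      rw [Ideal.mem_comap, W.valuation_lt_one_iff]
      exact hW.2 v hv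
    · intro x hx
      rw [W.valuation_lt_one_iff] at hx
      obtain ⟨w, hw, e'⟩ := hU.exists_eq_mul (x : L') hx
      have : x = algebraMap (AdjoinRoot (X ^ e - C π : A[X])) W (AdjoinRoot.root _) * ⟨w, hw⟩ :=
        Subtype.ext (by rw [e']; rfl)
      rw [this]
      exact Ideal.mul_mem_right _ _ (Ideal.mem_map_of_mem _ hrootmem)
  · -- separable residue field extension
    let r₁ : ResidueField V →+* ResidueField W := ResidueField.map (EtRam.inclOfComap W ψ)
    have hr₁ : ∀ v : V, r₁ (residue V v) = residue W (EtRam.inclOfComap W ψ v) := fun v =>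
      ResidueField.map_residue _ _
    have hr₂ : ∀ v : AdjoinRoot (X ^ e - C π : A[X]),
        algebraMap (ResidueField (AdjoinRoot (X ^ e - C π : A[X]))) (ResidueField W)
          (residue _ v) = residue W (algebraMap _ W v) := fun v =>
      ResidueField.algebraMap_residue _
    set θbar : ResidueField W := residue W ⟨θ, hθW⟩ with hθbar
    have hcompatres : ∀ c : ResidueField A, r₁ (algebraMap (ResidueField A) (ResidueField V) c) =
        algebraMap (ResidueField (AdjoinRoot (X ^ e - C π : A[X]))) (ResidueField W)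
          (algebraMap (ResidueField A) (ResidueField (AdjoinRoot (X ^ e - C π : A[X]))) c) := by
      intro c
      obtain ⟨a, rfl⟩ := residue_surjective c
      rw [ResidueField.algebraMap_residue, ResidueField.algebraMap_residue, hr₁, hr₂]
      congr 1
      exact Subtype.ext (hφ₁A a)
    have heW : ((eV : ℕ) : ResidueField W) ≠ 0 := by
      have := (map_ne_zero (r₁.comp (algebraMap (ResidueField A) (ResidueField V)))).mpr he0
      rwa [map_natCast] at this
    have hθbar_pow : θbar ^ eV =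
        algebraMap (ResidueField (AdjoinRoot (X ^ e - C π : A[X]))) (ResidueField W)
          (residue _ 1) * r₁ (residue V ((uV⁻¹ : Vˣ) : V)) := by
      rw [hθbar, ← map_pow, hr₁, hr₂, ← map_mul]
      congr 1
      exact Subtype.ext hθ
    have ha0 : residue (AdjoinRoot (X ^ e - C π : A[X])) 1 ≠ 0 := by
      rw [map_one]; exact one_ne_zero
    have hb0 : residue V ((uV⁻¹ : Vˣ) : V) ≠ 0 := by
      rw [Ne, residue_eq_zero_iff]
      exact fun h => (IsLocalRing.mem_maximalIdeal _).mp h hu₁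
    refine isSeparable_of_root_generators (k := ResidueField A) r₁ hcompatres θbar eV heW _ _
      ha0 hb0 hθbar_pow ?_
    intro S hS₂ hS₁ hSθ
    refine hU.residue_mem_subfield S ?_
    refine residue_genRingRoot_mem φ₁ φ₂ θ hDW S.toSubring (fun v => ?_) (fun v => ?_) hSθ
    · have := hS₁ (residue V v)
      rw [hr₁] at this
      exact this
    · have := hS₂ (residue _ v)
      rw [hr₂] at this
      exact this

end Groth.Agent.Lib.Helper18.Unram
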