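import Mathlib

/-! # Galois closures and composita for a property stable under subextensions and composita -/

set_option autoImplicit false
set_option linter.style.haveILetI false

namespace Groth.Agent.Lib.Helper18.Unram

open TensorProduct IntermediateField

universe u

section

variable {K : Type u} [Field K]
  (P : ∀ (L : Type u) [Field L] [Algebra K L], Prop)

/-- `P` passes to subextensions. -/
def SubStable : Prop :=
  ∀ (L M : Type u) [Field L] [Field M] [Algebra K L] [Algebra K M] [FiniteDimensional K M]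
    [Algebra.IsSeparable K M] (_ : L →ₐ[K] M), P M → P L

/-- `P` passes to field quotients of tensor products. -/
def CompStable : Prop :=
  ∀ (L₁ L₂ F : Type u) [Field L₁] [Field L₂] [Field F] [Algebra K L₁] [Algebra K L₂]
    [Algebra K F] [FiniteDimensional K L₁] [FiniteDimensional K L₂] [Algebra.IsSeparable K L₁]
    [Algebra.IsSeparable K L₂] [FiniteDimensional K F] [Algebra.IsSeparable K F]
    (φ : L₁ ⊗[K] L₂ →ₐ[K] F), Function.Surjective φ → P L₁ → P L₂ → P F

variable {P}

theorem P_sup (hcomp : CompStable P) {Ω : Type u} [Field Ω] [Algebra K Ω]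
    (E₁ E₂ : IntermediateField K Ω) [FiniteDimensional K E₁] [FiniteDimensional K E₂]
    [Algebra.IsSeparable K E₁] [Algebra.IsSeparable K E₂] (h₁ : P E₁) (h₂ : P E₂) :
    P ↥(E₁ ⊔ E₂) := by
  let φ : E₁ ⊗[K] E₂ →ₐ[K] ↥(E₁ ⊔ E₂) :=
    Algebra.TensorProduct.productMap (IntermediateField.inclusion le_sup_left)
      (IntermediateField.inclusion le_sup_right)
  let ψ : E₁ ⊗[K] E₂ →ₐ[K] Ω := Algebra.TensorProduct.productMap E₁.val E₂.val
  have hφψ : ∀ t, ((φ t : ↥(E₁ ⊔ E₂)) : Ω) = ψ t := by
    intro t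
    have : (E₁ ⊔ E₂).val.comp φ = ψ := by
      apply Algebra.TensorProduct.ext'
      intro a b
      simp [φ, ψ]
    exact DFunLike.congr_fun this t
  have hrange : ψ.range = (E₁ ⊔ E₂).toSubalgebra := by
    rw [Algebra.TensorProduct.productMap_range, IntermediateField.range_val,
      IntermediateField.range_val, IntermediateField.sup_toSubalgebra_of_left]
  refine hcomp E₁ E₂ ↥(E₁ ⊔ E₂) φ ?_ h₁ h₂
  intro y
  have hy : (y : Ω) ∈ ψ.range := by rw [hrange]; exact y.2
  obtain ⟨t, ht⟩ := hy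
  exact ⟨t, Subtype.ext ((hφψ t).trans ht)⟩

theorem P_range (hsub : SubStable P) {L Ω : Type u} [Field L] [Field Ω] [Algebra K L]
    [Algebra K Ω] [FiniteDimensional K L] [Algebra.IsSeparable K L] (f : L →ₐ[K] Ω) (h : P L) :
    P ↥f.fieldRange :=
  hsub ↥f.fieldRange L (f.equivFieldRange.symm : ↥f.fieldRange →ₐ[K] L) h

theorem finite_sep_range {L Ω : Type u} [Field L] [Field Ω] [Algebra K L]
    [Algebra K Ω] [FiniteDimensional K L] [Algebra.IsSeparable K L] (f : L →ₐ[K] Ω) :
    FiniteDimensional K ↥f.fieldRange ∧ Algebra.IsSeparable K ↥f.fieldRange :=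
  ⟨LinearEquiv.finiteDimensional f.equivFieldRange.toLinearEquiv,
    AlgEquiv.Algebra.isSeparable f.equivFieldRange⟩

/-- The Galois closure. -/
theorem exists_galois (hsub : SubStable P) (hcomp : CompStable P) (L : Type u) [Field L]
    [Algebra K L] [FiniteDimensional K L] [Algebra.IsSeparable K L] (h : P L) :
    ∃ (M : Type u) (_ : Field M) (_ : Algebra K M) (_ : FiniteDimensional K M)
      (_ : IsGalois K M) (_ : L →ₐ[K] M), P M := by
  haveI : IsAlgClosure K (AlgebraicClosure L) :=
    ⟨AlgebraicClosure.isAlgClosed L, Algebra.IsAlgebraic.trans K L (AlgebraicClosure L)⟩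
  haveI : Normal K (AlgebraicClosure L) := IsAlgClosure.normal _ _
  haveI : Nonempty (L →ₐ[K] AlgebraicClosure L) := ⟨IsScalarTower.toAlgHom K L _⟩
  have hall : ∀ E : IntermediateField K (AlgebraicClosure L),
      E = normalClosure K L (AlgebraicClosure L) →
      FiniteDimensional K E ∧ Algebra.IsSeparable K E ∧ P E := by
    intro E hE
    rw [normalClosure_def, ← Finset.sup'_univ_eq_ciSup] at hE
    subst hE
    apply Finset.sup'_induction (p := fun E : IntermediateField K (AlgebraicClosure L) =>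
      FiniteDimensional K E ∧ Algebra.IsSeparable K E ∧ P E)
    · rintro E₁ ⟨hf₁, hs₁, hP₁⟩ E₂ ⟨hf₂, hs₂, hP₂⟩
      exact ⟨inferInstance, inferInstance, P_sup hcomp E₁ E₂ hP₁ hP₂⟩
    · intro f _
      exact ⟨(finite_sep_range f).1, (finite_sep_range f).2, P_range hsub f h⟩
  obtain ⟨hf, hs, hP⟩ := hall _ rfl
  haveI := hs
  exact ⟨↥(normalClosure K L (AlgebraicClosure L)), inferInstance, inferInstance, hf, ⟨⟩,
    IsScalarTower.toAlgHom K L _, hP⟩

/-- A common finite separable extension. -/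
theorem exists_compositum (hsub : SubStable P) (hcomp : CompStable P) (L₁ L₂ : Type u)
    [Field L₁] [Field L₂] [Algebra K L₁] [Algebra K L₂] [FiniteDimensional K L₁]
    [FiniteDimensional K L₂] [Algebra.IsSeparable K L₁] [Algebra.IsSeparable K L₂]
    (h₁ : P L₁) (h₂ : P L₂) :
    ∃ (M : Type u) (_ : Field M) (_ : Algebra K M) (_ : FiniteDimensional K M)
      (_ : Algebra.IsSeparable K M) (_ : L₁ →ₐ[K] M) (_ : L₂ →ₐ[K] M), P M := by
  let f₁ : L₁ →ₐ[K] AlgebraicClosure L₁ := IsScalarTower.toAlgHom K L₁ _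
  let f₂ : L₂ →ₐ[K] AlgebraicClosure L₁ := IsAlgClosed.lift
  haveI := (finite_sep_range f₁).1
  haveI := (finite_sep_range f₁).2
  haveI := (finite_sep_range f₂).1
  haveI := (finite_sep_range f₂).2
  refine ⟨↥(f₁.fieldRange ⊔ f₂.fieldRange), inferInstance, inferInstance, inferInstance,
    inferInstance,
    (IntermediateField.inclusion le_sup_left).comp
      ((f₁.equivFieldRange : L₁ ≃ₐ[K] ↥f₁.fieldRange) : L₁ →ₐ[K] ↥f₁.fieldRange),
    (IntermediateField.inclusion le_sup_right).comp
      ((f₂.equivFieldRange : L₂ ≃ₐ[K] ↥f₂.fieldRange) : L₂ →ₐ[K] ↥f₂.fieldRange),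
    P_sup hcomp _ _ (P_range hsub f₁ h₁) (P_range hsub f₂ h₂)⟩

end

end Groth.Agent.Lib.Helper18.Unram
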