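import Mathlib
import Groth.Agent.Lib.Helper18.Unram.VNR
import Groth.Agent.Lib.Helper18.Unram.Root

/-! # Geometric reducedness of a field generated by two fields and a root of a unit -/

set_option autoImplicit false
set_option linter.style.haveILetI false

namespace Groth.Agent.Lib.Helper18.Unram

open TensorProduct Polynomial

universe u

/-- `Q` is generated by `k₁`, the image of `E` and an `e`-th root `θ` of a product of units, with `e`
invertible; `k₁/k` algebraic and `E/k` geometrically reduced.  Then `Q` is geometrically reduced over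
`k₁`. -/
theorem geomReduced_of_surjective_root {k k₁ E Q : Type u} [Field k] [Field k₁] [Field E]
    [CommRing Q] [Algebra k k₁] [Algebra.IsAlgebraic k k₁] [Algebra k E]
    [Algebra.IsGeometricallyReduced k E] [Algebra k Q] [Algebra k₁ Q] [IsScalarTower k k₁ Q]
    (g : E →ₐ[k] Q) (θ : Q) (e : ℕ) (he : 0 < e) (he0 : (e : k) ≠ 0) (a : k₁) (b : E)
    (ha : a ≠ 0) (hb : b ≠ 0) (hθ : θ ^ e = algebraMap k₁ Q a * g b)
    (hgen : ∀ x : Q, x ∈ Subring.closure (Set.range (algebraMap k₁ Q) ∪ Set.range g ∪ {θ})) :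
    Algebra.IsGeometricallyReduced k₁ Q := by
  rw [Algebra.isGeometricallyReduced_field_iff]
  haveI : Algebra.IsAlgebraic k (AlgebraicClosure k₁) :=
    Algebra.IsAlgebraic.trans k k₁ (AlgebraicClosure k₁)
  haveI : IsReduced (AlgebraicClosure k₁ ⊗[k] E) := inferInstance
  have hmax : ∀ 𝔭 : Ideal (AlgebraicClosure k₁ ⊗[k] E), 𝔭.IsPrime → 𝔭.IsMaximal := by
    intro 𝔭 h𝔭
    haveI := h𝔭
    exact isMaximal_of_isPrime_of_left_algebraic 𝔭
  -- the map on the tensor product
  let f : AlgebraicClosure k₁ ⊗[k] E →ₐ[AlgebraicClosure k₁] AlgebraicClosure k₁ ⊗[k₁] Q :=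
    Algebra.TensorProduct.productLeftAlgHom
      (Algebra.ofId (AlgebraicClosure k₁) (AlgebraicClosure k₁ ⊗[k₁] Q))
      (((Algebra.TensorProduct.includeRight :
        Q →ₐ[k₁] AlgebraicClosure k₁ ⊗[k₁] Q).restrictScalars k).comp g)
  have hf : ∀ (ω : AlgebraicClosure k₁) (y : E), f (ω ⊗ₜ y) = ω ⊗ₜ g y := by
    intro ω y
    show algebraMap (AlgebraicClosure k₁) (AlgebraicClosure k₁ ⊗[k₁] Q) ω * ((1 : AlgebraicClosure k₁) ⊗ₜ g y) = _
    rw [Algebra.TensorProduct.algebraMap_apply, Algebra.TensorProduct.tmul_mul_tmul, mul_one,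
      one_mul]
    rfl
  set c : AlgebraicClosure k₁ ⊗[k] E := (algebraMap k₁ (AlgebraicClosure k₁) a) ⊗ₜ b with hc
  have hcu : IsUnit c := by
    have ha' : algebraMap k₁ (AlgebraicClosure k₁) a ≠ 0 :=
      (map_ne_zero (algebraMap k₁ (AlgebraicClosure k₁))).mpr ha
    refine ⟨⟨c, (algebraMap k₁ (AlgebraicClosure k₁) a)⁻¹ ⊗ₜ b⁻¹, ?_, ?_⟩, rfl⟩
    · rw [hc, Algebra.TensorProduct.tmul_mul_tmul, mul_inv_cancel₀ ha', mul_inv_cancel₀ hb,
        Algebra.TensorProduct.one_def]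
    · rw [hc, Algebra.TensorProduct.tmul_mul_tmul, inv_mul_cancel₀ ha', inv_mul_cancel₀ hb,
        Algebra.TensorProduct.one_def]
  have heu : IsUnit ((e : ℕ) : AlgebraicClosure k₁ ⊗[k] E) := by
    have h1 : IsUnit ((e : ℕ) : k) := isUnit_iff_ne_zero.mpr he0
    have := h1.map (algebraMap k (AlgebraicClosure k₁ ⊗[k] E))
    rwa [map_natCast] at this
  have hP' := hP_adjoinRoot hmax e he heu c hcu
  have hroot : Polynomial.eval₂ (f : AlgebraicClosure k₁ ⊗[k] E →+* _)
      ((1 : AlgebraicClosure k₁) ⊗ₜ[k₁] θ) (X ^ e - C c) = 0 := by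
    rw [Polynomial.eval₂_sub, Polynomial.eval₂_pow, Polynomial.eval₂_X, Polynomial.eval₂_C,
      sub_eq_zero]
    show _ = f c
    rw [hc, hf, Algebra.TensorProduct.tmul_pow, one_pow, hθ]
    rw [Algebra.algebraMap_eq_smul_one (A := AlgebraicClosure k₁) a, TensorProduct.smul_tmul,
      Algebra.smul_def]
  let f' : AdjoinRoot (X ^ e - C c : (AlgebraicClosure k₁ ⊗[k] E)[X]) →+*
      AlgebraicClosure k₁ ⊗[k₁] Q := AdjoinRoot.lift (f : _ →+* _) _ hroot
  have hf'of : ∀ t, f' (AdjoinRoot.of _ t) = f t := fun t => AdjoinRoot.lift_of hroot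
  have hf'root : f' (AdjoinRoot.root _) = (1 : AlgebraicClosure k₁) ⊗ₜ[k₁] θ :=
    AdjoinRoot.lift_root hroot
  have hpure : ∀ x : Q, ∀ ω : AlgebraicClosure k₁, ω ⊗ₜ[k₁] x ∈ f'.range := by
    intro x
    have hx := hgen x
    induction hx using Subring.closure_induction with
    | mem x hx =>
      intro ω
      rcases hx with (⟨a', rfl⟩ | ⟨y, rfl⟩) | rfl
      · refine ⟨AdjoinRoot.of _ ((ω * algebraMap k₁ (AlgebraicClosure k₁) a') ⊗ₜ 1), ?_⟩
        rw [hf'of, hf, map_one, Algebra.algebraMap_eq_smul_one (A := Q) a',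
          ← TensorProduct.smul_tmul, Algebra.smul_def, mul_comm]
      · exact ⟨AdjoinRoot.of _ (ω ⊗ₜ y), by rw [hf'of, hf]⟩
      · refine ⟨AdjoinRoot.of _ (ω ⊗ₜ 1) * AdjoinRoot.root _, ?_⟩
        rw [map_mul, hf'of, hf'root, hf, map_one, Algebra.TensorProduct.tmul_mul_tmul, mul_one,
          one_mul]
    | zero => intro ω; rw [TensorProduct.tmul_zero]; exact f'.range.zero_mem
    | one =>
      intro ω
      exact ⟨AdjoinRoot.of _ (ω ⊗ₜ 1), by rw [hf'of, hf, map_one]⟩
    | add x y _ _ ihx ihy =>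
      intro ω
      rw [TensorProduct.tmul_add]; exact f'.range.add_mem (ihx ω) (ihy ω)
    | neg x _ ihx =>
      intro ω
      rw [TensorProduct.tmul_neg]; exact f'.range.neg_mem (ihx ω)
    | mul x y _ _ ihx ihy =>
      intro ω
      have : ω ⊗ₜ[k₁] (x * y) = (ω ⊗ₜ[k₁] x) * ((1 : AlgebraicClosure k₁) ⊗ₜ[k₁] y) := by
        rw [Algebra.TensorProduct.tmul_mul_tmul, mul_one]
      rw [this]; exact f'.range.mul_mem (ihx ω) (ihy 1)
  have hsurj : Function.Surjective f' := by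
    intro z
    induction z using TensorProduct.induction_on with
    | zero => exact ⟨0, map_zero _⟩
    | tmul ω x => exact hpure x ω
    | add z w hz hw =>
      obtain ⟨z', rfl⟩ := hz
      obtain ⟨w', rfl⟩ := hw
      exact ⟨z' + w', map_add _ _ _⟩
  exact isReduced_of_surjective_of_hP hP' f' hsurj

end Groth.Agent.Lib.Helper18.Unram
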