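import Mathlib
import Groth.Prelude.Def_EtRam
import Groth.Agent.Lib.Helper18.Unram.ResPart
import Groth.Agent.Lib.Helper18.Unram.Root
import Groth.Agent.Lib.Helper18.Unram.ResRoot

/-! # The residue-field part with a root of a unit and an extra uniformiser adjoined -/

set_option autoImplicit false
set_option linter.style.haveILetI false

namespace Groth.Agent.Lib.Helper18.Unram

open IsLocalRing TensorProduct Polynomial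

universe u

section Res2

variable {F : Type u} [Field F] {W : ValuationSubring F}
  {V₁ V₂ : Type u} [CommRing V₁] [IsLocalRing V₁] [CommRing V₂] [IsLocalRing V₂]
  {φ₁ : V₁ →+* F} {φ₂ : V₂ →+* F}

/-- The map from the tensor product of the residue fields to `D / ϖ' D`. -/
theorem exists_residue_map' (D : Subring F) (hD₁ : ∀ v, φ₁ v ∈ D) (hD₂ : ∀ v, φ₂ v ∈ D) (ϖ' : F)
    (hϖ'D : ϖ' ∈ D)
    (k : Type u) [Field k] [Algebra k (ResidueField V₁)] [Algebra k (ResidueField V₂)]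
    (hm₁ : ∀ v ∈ maximalIdeal V₁, ∃ d ∈ D, φ₁ v = ϖ' * d)
    (hm₂ : ∀ v ∈ maximalIdeal V₂, ∃ d ∈ D, φ₂ v = ϖ' * d)
    (hk : ∀ c : k, ∃ v₁ v₂, algebraMap k (ResidueField V₁) c = residue V₁ v₁ ∧
      algebraMap k (ResidueField V₂) c = residue V₂ v₂ ∧ φ₁ v₁ = φ₂ v₂) :
    ∃ Ψ : ResidueField V₂ ⊗[k] ResidueField V₁ →+* D ⧸ Ideal.span {(⟨ϖ', hϖ'D⟩ : D)},
      (∀ v : V₁, Ψ (1 ⊗ₜ residue V₁ v) = Ideal.Quotient.mk _ ⟨φ₁ v, hD₁ v⟩) ∧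
      (∀ v : V₂, Ψ (residue V₂ v ⊗ₜ 1) = Ideal.Quotient.mk _ ⟨φ₂ v, hD₂ v⟩) := by
  let ϖD : D := ⟨ϖ', hϖ'D⟩
  let J : Ideal D := Ideal.span {ϖD}
  let c₁ : V₁ →+* D := φ₁.codRestrict D hD₁
  let c₂ : V₂ →+* D := φ₂.codRestrict D hD₂
  let q : D →+* D ⧸ J := Ideal.Quotient.mk J
  have hqϖ : q ϖD = 0 := Ideal.Quotient.eq_zero_iff_mem.mpr (Ideal.subset_span rfl)
  let ψ₁ : ResidueField V₁ →+* D ⧸ J := Ideal.Quotient.lift (maximalIdeal V₁) (q.comp c₁)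
    (fun v hv => by
      obtain ⟨d, hd, e⟩ := hm₁ v hv
      show q (c₁ v) = 0
      have : c₁ v = ϖD * ⟨d, hd⟩ := Subtype.ext e
      rw [this, map_mul, hqϖ, zero_mul])
  let ψ₂ : ResidueField V₂ →+* D ⧸ J := Ideal.Quotient.lift (maximalIdeal V₂) (q.comp c₂)
    (fun v hv => by
      obtain ⟨d, hd, e⟩ := hm₂ v hv
      show q (c₂ v) = 0
      have : c₂ v = ϖD * ⟨d, hd⟩ := Subtype.ext e
      rw [this, map_mul, hqϖ, zero_mul])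
  have hψ₁ : ∀ v, ψ₁ (residue V₁ v) = q (c₁ v) := fun v => rfl
  have hψ₂ : ∀ v, ψ₂ (residue V₂ v) = q (c₂ v) := fun v => rfl
  letI algQ : Algebra k (D ⧸ J) := (ψ₁.comp (algebraMap k (ResidueField V₁))).toAlgebra
  let ψ₁a : ResidueField V₁ →ₐ[k] D ⧸ J := { ψ₁ with commutes' := fun c => rfl }
  let ψ₂a : ResidueField V₂ →ₐ[k] D ⧸ J :=
    { ψ₂ with
      commutes' := fun c => by
        obtain ⟨v₁, v₂, e₁, e₂, e⟩ := hk c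
        show ψ₂ (algebraMap k (ResidueField V₂) c) = ψ₁ (algebraMap k (ResidueField V₁) c)
        rw [e₁, e₂, hψ₁, hψ₂]
        congr 1
        exact Subtype.ext e.symm }
  let Ψ : ResidueField V₂ ⊗[k] ResidueField V₁ →ₐ[k] D ⧸ J :=
    Algebra.TensorProduct.productMap ψ₂a ψ₁a
  refine ⟨Ψ.toRingHom, fun v => ?_, fun v => ?_⟩
  · show Ψ (1 ⊗ₜ residue V₁ v) = _
    simp [Ψ, ψ₁a, ψ₂a, Algebra.TensorProduct.productMap_apply_tmul, hψ₁]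
    rfl
  · show Ψ (residue V₂ v ⊗ₜ 1) = _
    simp [Ψ, ψ₁a, ψ₂a, Algebra.TensorProduct.productMap_apply_tmul, hψ₂]
    rfl

end Res2

section Root2

variable {F : Type u} [Field F] {W : ValuationSubring F}
  {V₁ V₂ : Type u} [CommRing V₁] [IsLocalRing V₁] [CommRing V₂] [IsLocalRing V₂]
  (φ₁ : V₁ →+* F) (φ₂ : V₂ →+* F)

/-- The subring generated by the images of two rings and two more elements. -/
def genRingRoot2 (θ ϖ' : F) : Subring F :=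
  Subring.closure (Set.range φ₁ ∪ Set.range φ₂ ∪ {θ} ∪ {ϖ'})

theorem mem_genRingRoot2_left (θ ϖ' : F) (v : V₁) : φ₁ v ∈ genRingRoot2 φ₁ φ₂ θ ϖ' :=
  Subring.subset_closure (Or.inl (Or.inl (Or.inl ⟨v, rfl⟩)))

theorem mem_genRingRoot2_right (θ ϖ' : F) (v : V₂) : φ₂ v ∈ genRingRoot2 φ₁ φ₂ θ ϖ' :=
  Subring.subset_closure (Or.inl (Or.inl (Or.inr ⟨v, rfl⟩)))

theorem mem_genRingRoot2_root (θ ϖ' : F) : θ ∈ genRingRoot2 φ₁ φ₂ θ ϖ' :=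
  Subring.subset_closure (Or.inl (Or.inr rfl))

theorem mem_genRingRoot2_unif (θ ϖ' : F) : ϖ' ∈ genRingRoot2 φ₁ φ₂ θ ϖ' :=
  Subring.subset_closure (Or.inr rfl)

variable {φ₁ φ₂}

theorem genRingRoot2_le (h₁ : EtRam.Dominates V₁ φ₁ W) (h₂ : EtRam.Dominates V₂ φ₂ W)
    (θ ϖ' : F) (hθW : θ ∈ W) (hϖ'W : ϖ' ∈ W) : ∀ d ∈ genRingRoot2 φ₁ φ₂ θ ϖ', d ∈ W := by
  have : genRingRoot2 φ₁ φ₂ θ ϖ' ≤ W.toSubring := by
    apply Subring.closure_le.mpr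
    rintro _ (((⟨v, rfl⟩ | ⟨v, rfl⟩) | rfl) | rfl)
    · exact h₁.1 v
    · exact h₂.1 v
    · exact hθW
    · exact hϖ'W
  exact fun d hd => this hd

theorem f3_of_residue_root2 (h₁ : EtRam.Dominates V₁ φ₁ W) (h₂ : EtRam.Dominates V₂ φ₂ W)
    (ϖ' : F) (hϖ'lt : W.valuation ϖ' < 1)
    (k : Type u) [Field k] [Algebra k (ResidueField V₁)] [Algebra k (ResidueField V₂)]
    (θ : F) (e : ℕ) (he : 0 < e) (u₁ : V₁) (u₂ : V₂) (hu₁ : IsUnit u₁) (hu₂ : IsUnit u₂)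
    (hθ : θ ^ e = φ₂ u₂ * φ₁ u₁)
    (hm₁ : ∀ v ∈ maximalIdeal V₁, ∃ d ∈ genRingRoot2 φ₁ φ₂ θ ϖ', φ₁ v = ϖ' * d)
    (hm₂ : ∀ v ∈ maximalIdeal V₂, ∃ d ∈ genRingRoot2 φ₁ φ₂ θ ϖ', φ₂ v = ϖ' * d)
    (hk : ∀ c : k, ∃ v₁ v₂, algebraMap k (ResidueField V₁) c = residue V₁ v₁ ∧
      algebraMap k (ResidueField V₂) c = residue V₂ v₂ ∧ φ₁ v₁ = φ₂ v₂)
    [IsReduced (ResidueField V₂ ⊗[k] ResidueField V₁)]
    (hmax : ∀ 𝔭 : Ideal (ResidueField V₂ ⊗[k] ResidueField V₁), 𝔭.IsPrime → 𝔭.IsMaximal)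
    (heu : IsUnit ((e : ℕ) : ResidueField V₂ ⊗[k] ResidueField V₁)) :
    ∀ x ∈ genRingRoot2 φ₁ φ₂ θ ϖ', W.valuation x < 1 →
      ∃ s ∈ genRingRoot2 φ₁ φ₂ θ ϖ', W.valuation s = 1 ∧
        ∃ d ∈ genRingRoot2 φ₁ φ₂ θ ϖ', s * x = ϖ' * d := by
  set D := genRingRoot2 φ₁ φ₂ θ ϖ' with hD
  have hθv := val_root_eq_one h₁ h₂ θ e he u₁ u₂ hu₁ hu₂ hθ
  have hθW : θ ∈ W := (W.valuation_le_one_iff θ).mp hθv.le
  have hϖ'W : ϖ' ∈ W := (W.valuation_le_one_iff ϖ').mp hϖ'lt.le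
  have hDW := genRingRoot2_le h₁ h₂ θ ϖ' hθW hϖ'W
  obtain ⟨Ψ, hΨ₁, hΨ₂⟩ := exists_residue_map' (φ₁ := φ₁) (φ₂ := φ₂) D
    (mem_genRingRoot2_left φ₁ φ₂ θ ϖ') (mem_genRingRoot2_right φ₁ φ₂ θ ϖ') ϖ'
    (mem_genRingRoot2_unif φ₁ φ₂ θ ϖ') k hm₁ hm₂ hk
  let J : Ideal D := Ideal.span {(⟨ϖ', mem_genRingRoot2_unif φ₁ φ₂ θ ϖ'⟩ : D)}
  set c : ResidueField V₂ ⊗[k] ResidueField V₁ := residue V₂ u₂ ⊗ₜ residue V₁ u₁ with hc
  have hcu : IsUnit c := by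
    have h1 : IsUnit (residue V₂ u₂) := hu₂.map _
    have h2 : IsUnit (residue V₁ u₁) := hu₁.map _
    obtain ⟨a, ha⟩ := h1
    obtain ⟨b, hb⟩ := h2
    rw [hc, ← ha, ← hb]
    refine ⟨⟨(a : ResidueField V₂) ⊗ₜ (b : ResidueField V₁),
      ((a⁻¹ : (ResidueField V₂)ˣ) : ResidueField V₂) ⊗ₜ
        ((b⁻¹ : (ResidueField V₁)ˣ) : ResidueField V₁), ?_, ?_⟩, rfl⟩
    · rw [Algebra.TensorProduct.tmul_mul_tmul, Units.mul_inv, Units.mul_inv,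
        Algebra.TensorProduct.one_def]
    · rw [Algebra.TensorProduct.tmul_mul_tmul, Units.inv_mul, Units.inv_mul,
        Algebra.TensorProduct.one_def]
  let θD : D := ⟨θ, mem_genRingRoot2_root φ₁ φ₂ θ ϖ'⟩
  let q : D →+* D ⧸ J := Ideal.Quotient.mk J
  have hΨc : Ψ c = q (⟨φ₂ u₂, mem_genRingRoot2_right φ₁ φ₂ θ ϖ' u₂⟩ *
      ⟨φ₁ u₁, mem_genRingRoot2_left φ₁ φ₂ θ ϖ' u₁⟩) := by
    have : c = (residue V₂ u₂ ⊗ₜ 1) * (1 ⊗ₜ residue V₁ u₁) := by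
      rw [hc, Algebra.TensorProduct.tmul_mul_tmul, mul_one, one_mul]
    rw [this, map_mul, hΨ₁, hΨ₂, ← map_mul]
  have hroot : Polynomial.eval₂ Ψ (q θD) (X ^ e - C c : (ResidueField V₂ ⊗[k] ResidueField V₁)[X])
      = 0 := by
    rw [Polynomial.eval₂_sub, Polynomial.eval₂_pow, Polynomial.eval₂_X, Polynomial.eval₂_C, hΨc,
      ← map_pow, sub_eq_zero]
    congr 1
    exact Subtype.ext hθ
  let Ψ' : AdjoinRoot (X ^ e - C c : (ResidueField V₂ ⊗[k] ResidueField V₁)[X]) →+* D ⧸ J :=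
    AdjoinRoot.lift Ψ (q θD) hroot
  have hΨ'of : ∀ t, Ψ' (AdjoinRoot.of _ t) = Ψ t := fun t => AdjoinRoot.lift_of hroot
  have hΨ'root : Ψ' (AdjoinRoot.root _) = q θD := AdjoinRoot.lift_root hroot
  have hsurj : Function.Surjective Ψ' := by
    intro z
    obtain ⟨⟨y, hy⟩, rfl⟩ := Ideal.Quotient.mk_surjective z
    show q ⟨y, hy⟩ ∈ Ψ'.range
    induction hy using Subring.closure_induction with
    | mem y hy =>
      rcases hy with ((⟨v, rfl⟩ | ⟨v, rfl⟩) | hyθ) | hyϖ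
      · exact ⟨AdjoinRoot.of _ (1 ⊗ₜ residue V₁ v), by rw [hΨ'of, hΨ₁]⟩
      · exact ⟨AdjoinRoot.of _ (residue V₂ v ⊗ₜ 1), by rw [hΨ'of, hΨ₂]⟩
      · have : ∀ h', (⟨y, h'⟩ : D) = θD := fun h' => Subtype.ext hyθ
        rw [this]
        exact ⟨AdjoinRoot.root _, hΨ'root⟩
      · have : ∀ h', (⟨y, h'⟩ : D) = ⟨ϖ', mem_genRingRoot2_unif φ₁ φ₂ θ ϖ'⟩ :=
          fun h' => Subtype.ext hyϖ
        rw [this]
        have h0 : q ⟨ϖ', mem_genRingRoot2_unif φ₁ φ₂ θ ϖ'⟩ = 0 :=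
          Ideal.Quotient.eq_zero_iff_mem.mpr (Ideal.subset_span (Set.mem_singleton _))
        exact ⟨0, (map_zero Ψ').trans h0.symm⟩
    | zero => exact Ψ'.range.zero_mem
    | one => exact Ψ'.range.one_mem
    | add x y hx hy ihx ihy =>
      have : (⟨x + y, D.add_mem hx hy⟩ : D) = ⟨x, hx⟩ + ⟨y, hy⟩ := rfl
      rw [this, map_add]; exact Ψ'.range.add_mem ihx ihy
    | neg x hx ihx =>
      have : (⟨-x, D.neg_mem hx⟩ : D) = -⟨x, hx⟩ := rfl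
      rw [this, map_neg]; exact Ψ'.range.neg_mem ihx
    | mul x y hx hy ihx ihy =>
      have : (⟨x * y, D.mul_mem hx hy⟩ : D) = ⟨x, hx⟩ * ⟨y, hy⟩ := rfl
      rw [this, map_mul]; exact Ψ'.range.mul_mem ihx ihy
  have hP' := hP_adjoinRoot hmax e he heu c hcu
  exact f3_of_surjective D hDW ϖ' (mem_genRingRoot2_unif φ₁ φ₂ θ ϖ') hϖ'lt hP' J rfl Ψ' hsurj

theorem residue_genRingRoot2_mem (φ₁ : V₁ →+* F) (φ₂ : V₂ →+* F) (θ ϖ' : F)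
    (hDW : ∀ d ∈ genRingRoot2 φ₁ φ₂ θ ϖ', d ∈ W)
    (S : Subring (ResidueField W))
    (h₁ : ∀ v, residue W ⟨φ₁ v, hDW _ (mem_genRingRoot2_left φ₁ φ₂ θ ϖ' v)⟩ ∈ S)
    (h₂ : ∀ v, residue W ⟨φ₂ v, hDW _ (mem_genRingRoot2_right φ₁ φ₂ θ ϖ' v)⟩ ∈ S)
    (hθ : residue W ⟨θ, hDW _ (mem_genRingRoot2_root φ₁ φ₂ θ ϖ')⟩ ∈ S)
    (hϖ' : residue W ⟨ϖ', hDW _ (mem_genRingRoot2_unif φ₁ φ₂ θ ϖ')⟩ ∈ S) :
    ∀ d (hd : d ∈ genRingRoot2 φ₁ φ₂ θ ϖ'), residue W ⟨d, hDW d hd⟩ ∈ S := by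
  intro d hd
  induction hd using Subring.closure_induction with
  | mem d hd =>
    rcases hd with ((⟨b, rfl⟩ | ⟨v, rfl⟩) | rfl) | rfl
    · exact h₁ b
    · exact h₂ v
    · exact hθ
    · exact hϖ'
  | zero =>
    have : (⟨0, hDW 0 (genRingRoot2 φ₁ φ₂ θ ϖ').zero_mem⟩ : W) = 0 := rfl
    rw [this, map_zero]; exact S.zero_mem
  | one =>
    have : (⟨1, hDW 1 (genRingRoot2 φ₁ φ₂ θ ϖ').one_mem⟩ : W) = 1 := rfl
    rw [this, map_one]; exact S.one_mem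
  | add x y hx hy ihx ihy =>
    have : (⟨x + y, hDW _ ((genRingRoot2 φ₁ φ₂ θ ϖ').add_mem hx hy)⟩ : W) =
        ⟨x, hDW x hx⟩ + ⟨y, hDW y hy⟩ := rfl
    rw [this, map_add]; exact S.add_mem ihx ihy
  | neg x hx ihx =>
    have : (⟨-x, hDW _ ((genRingRoot2 φ₁ φ₂ θ ϖ').neg_mem hx)⟩ : W) = -⟨x, hDW x hx⟩ := rfl
    rw [this, map_neg]; exact S.neg_mem ihx
  | mul x y hx hy ihx ihy =>
    have : (⟨x * y, hDW _ ((genRingRoot2 φ₁ φ₂ θ ϖ').mul_mem hx hy)⟩ : W) =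
        ⟨x, hDW x hx⟩ * ⟨y, hDW y hy⟩ := rfl
    rw [this, map_mul]; exact S.mul_mem ihx ihy

end Root2

end Groth.Agent.Lib.Helper18.Unram
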